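import Mathlib

/-!
Groups of linear maps over a prime field and the transvections they contain: closure rules.
-/

set_option autoImplicit false

namespace Cfsg.Agent.Lib.H66.Transvection

open Module

variable {p : ℕ} [Fact p.Prime] {V : Type*} [AddCommGroup V] [Module (ZMod p) V]

/-- the transvection `x ↦ x + φ x • u` (the identity when `φ u ≠ 0`) -/
noncomputable def tv (u : V) (φ : Dual (ZMod p) V) : V ≃ₗ[ZMod p] V :=
  if h : φ u = 0 then LinearEquiv.transvection h else 1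

theorem tv_apply {u : V} {φ : Dual (ZMod p) V} (h : φ u = 0) (x : V) :
    tv u φ x = x + φ x • u := by
  simp [tv, h, LinearMap.transvection.apply]

theorem tv_zero_left (φ : Dual (ZMod p) V) : tv (0 : V) φ = 1 := by
  ext x; simp [tv_apply (map_zero φ)]

theorem tv_zero_right (u : V) : tv u (0 : Dual (ZMod p) V) = 1 := by
  ext x; simp [tv_apply (show (0 : Dual (ZMod p) V) u = 0 from rfl)]

theorem tv_add_right {u : V} {φ ψ : Dual (ZMod p) V} (h : φ u = 0) (h' : ψ u = 0) :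
    tv u φ * tv u ψ = tv u (φ + ψ) := by
  ext x
  have h'' : (φ + ψ) u = 0 := by simp [h, h']
  simp [tv_apply h, tv_apply h', tv_apply h'', h]
  module

theorem tv_add_left {u v : V} {φ : Dual (ZMod p) V} (h : φ u = 0) (h' : φ v = 0) :
    tv u φ * tv v φ = tv (u + v) φ := by
  ext x
  have h'' : φ (u + v) = 0 := by simp [h, h']
  simp [tv_apply h, tv_apply h', tv_apply h'', h']
  module

theorem tv_smul (u : V) (φ : Dual (ZMod p) V) (h : φ u = 0) (c : ZMod p) :
    tv (c • u) φ = tv u (c • φ) := by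
  ext x
  have h1 : φ (c • u) = 0 := by simp [h]
  have h2 : (c • φ) u = 0 := by simp [h]
  simp [tv_apply h1, tv_apply h2, smul_smul, mul_comm]

variable (H : Subgroup (V ≃ₗ[ZMod p] V))

/-- the transvection with centre `u` and axis `ker φ` lies in `H` -/
def Tv (u : V) (φ : Dual (ZMod p) V) : Prop := φ u = 0 ∧ tv u φ ∈ H

/-- every transvection of `H` has a partner generating an `SL₂` with it -/
def Paired : Prop :=
  ∀ (u : V) (φ : Dual (ZMod p) V), u ≠ 0 → φ ≠ 0 → Tv H u φ →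
    ∃ (v : V) (ψ : Dual (ZMod p) V), Tv H v ψ ∧ φ v ≠ 0 ∧ ψ u ≠ 0

variable {H}

theorem Tv.zero_left (φ : Dual (ZMod p) V) : Tv H (0 : V) φ :=
  ⟨map_zero φ, by rw [tv_zero_left]; exact H.one_mem⟩

theorem Tv.zero_right (u : V) : Tv H u (0 : Dual (ZMod p) V) :=
  ⟨rfl, by rw [tv_zero_right]; exact H.one_mem⟩

theorem Tv.addRight {u : V} {φ ψ : Dual (ZMod p) V} (h : Tv H u φ) (h' : Tv H u ψ) :
    Tv H u (φ + ψ) :=
  ⟨by simp [h.1, h'.1], by rw [← tv_add_right h.1 h'.1]; exact H.mul_mem h.2 h'.2⟩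

theorem Tv.addLeft {u v : V} {φ : Dual (ZMod p) V} (h : Tv H u φ) (h' : Tv H v φ) :
    Tv H (u + v) φ :=
  ⟨by simp [h.1, h'.1], by rw [← tv_add_left h.1 h'.1]; exact H.mul_mem h.2 h'.2⟩

theorem Tv.smulRight {u : V} {φ : Dual (ZMod p) V} (h : Tv H u φ) (c : ZMod p) :
    Tv H u (c • φ) := by
  rw [← ZMod.natCast_zmod_val c]
  induction c.val with
  | zero => simpa using Tv.zero_right u
  | succ n ih =>
    rw [Nat.cast_succ, add_smul, one_smul]
    exact ih.addRight h

theorem Tv.smulLeft {u : V} {φ : Dual (ZMod p) V} (h : Tv H u φ) (c : ZMod p) :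
    Tv H (c • u) φ :=
  ⟨by simp [h.1], by rw [tv_smul u φ h.1 c]; exact (h.smulRight c).2⟩

theorem Tv.of_smulLeft {u : V} {φ : Dual (ZMod p) V} {c : ZMod p} (hc : c ≠ 0) (h : Tv H (c • u) φ) :
    Tv H u φ := by
  simpa [smul_smul, inv_mul_cancel₀ hc] using h.smulLeft c⁻¹

theorem Tv.of_smulRight {u : V} {φ : Dual (ZMod p) V} {c : ZMod p} (hc : c ≠ 0) (h : Tv H u (c • φ)) :
    Tv H u φ := by
  simpa [smul_smul, inv_mul_cancel₀ hc] using h.smulRight c⁻¹

theorem Tv.subLeft {u v : V} {φ : Dual (ZMod p) V} (h : Tv H u φ) (h' : Tv H v φ) :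
    Tv H (u - v) φ := by
  rw [sub_eq_add_neg, ← neg_one_smul (ZMod p) v]
  exact h.addLeft (h'.smulLeft _)

theorem Tv.subRight {u : V} {φ ψ : Dual (ZMod p) V} (h : Tv H u φ) (h' : Tv H u ψ) :
    Tv H u (φ - ψ) := by
  rw [sub_eq_add_neg, ← neg_one_smul (ZMod p) ψ]
  exact h.addRight (h'.smulRight _)

/-- conjugation of one transvection by another -/
theorem Tv.conj {u v : V} {φ ψ : Dual (ZMod p) V} (h : Tv H u φ) (h' : Tv H v ψ) :
    Tv H (v + φ v • u) (ψ - ψ u • φ) := by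
  have hz : (ψ - ψ u • φ) (v + φ v • u) = 0 := by simp [h.1, h'.1]; ring
  refine ⟨hz, ?_⟩
  have : tv (v + φ v • u) (ψ - ψ u • φ) * tv u φ = tv u φ * tv v ψ := by
    ext x
    simp [tv_apply h.1, tv_apply h'.1, tv_apply hz, map_add, h.1]
    module
  rw [eq_mul_inv_of_mul_eq this]
  exact H.mul_mem (H.mul_mem h.2 h'.2) (H.inv_mem h.2)

/-- the one-way rule -/
theorem Tv.oneWay {u v : V} {φ ψ : Dual (ZMod p) V} (h : Tv H u φ) (h' : Tv H v ψ)
    (h0 : φ v = 0) (h1 : ψ u ≠ 0) : Tv H v φ := by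
  have h2 := h.conj h'
  rw [h0, zero_smul, add_zero] at h2
  have h3 := (h'.subRight h2)
  rw [sub_sub_cancel] at h3
  exact h3.of_smulRight h1

/-- the rule keeping a symplectic set of centres closed -/
theorem Tv.line {B : V →ₗ[ZMod p] Dual (ZMod p) V} (hB : ∀ v, B v v = 0) {w z : V}
    (hw : Tv H w (B w)) (hz : Tv H z (B z)) (hne : B z w ≠ 0) (c : ZMod p) :
    Tv H (w + c • z) (B (w + c • z)) := by
  have h := (hz.smulRight (c * (B z w)⁻¹)).conj hw
  have e1 : ((c * (B z w)⁻¹) • B z) w = c := by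
    simp [mul_assoc, inv_mul_cancel₀ hne]
  have e2 : B w z = - B z w := by
    have := hB (w + z)
    simp [map_add, hB] at this
    linear_combination this
  have e3 : B w - B w z • (c * (B z w)⁻¹) • B z = B (w + c • z) := by
    rw [map_add, map_smul, smul_smul, e2]
    rw [show -(B z w) * (c * (B z w)⁻¹) = -c by field_simp]
    simp
  rwa [e1, e3] at h

end Cfsg.Agent.Lib.H66.Transvection
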