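import Cfsg.Agent.Lib.H66.Transvection.Basic

/-!
Maximal `SL` or `Sp` blocks of a paired transvection group, following McLaughlin.
-/

set_option autoImplicit false

namespace Cfsg.Agent.Lib.H66.Transvection

open Module

variable {p : ℕ} [Fact p.Prime] {V : Type*} [AddCommGroup V] [Module (ZMod p) V] [Finite V]

/-- a separating functional -/
theorem exists_sep (W : Submodule (ZMod p) V) {x : V} (hx : x ∉ W) :
    ∃ f : Dual (ZMod p) V, (∀ w ∈ W, f w = 0) ∧ f x ≠ 0 := by
  obtain ⟨f, hf, hW⟩ := Submodule.exists_dual_map_eq_bot_of_notMem hx inferInstance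
  refine ⟨f, fun w hw => ?_, hf⟩
  have : f w ∈ W.map f := ⟨w, hw, rfl⟩
  rwa [hW, Submodule.mem_bot] at this

section Compl

variable {X K : Submodule (ZMod p) V}

theorem exists_split (hc : IsCompl X K) (v : V) : ∃ x ∈ X, ∃ k ∈ K, v = x + k := by
  have : v ∈ X ⊔ K := by rw [hc.sup_eq_top]; trivial
  obtain ⟨x, hx, k, hk, h⟩ := Submodule.mem_sup.mp this
  exact ⟨x, hx, k, hk, h.symm⟩

theorem dual_ext (hc : IsCompl X K) {φ ψ : Dual (ZMod p) V} (hX : ∀ x ∈ X, φ x = ψ x)
    (hK : ∀ k ∈ K, φ k = ψ k) : φ = ψ := by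
  ext v
  obtain ⟨x, hx, k, hk, rfl⟩ := exists_split hc v
  simp [hX x hx, hK k hk]

theorem exists_dual_split (hc : IsCompl X K) (φ : Dual (ZMod p) V) :
    ∃ a b : Dual (ZMod p) V, φ = a + b ∧ (∀ k ∈ K, a k = 0) ∧ (∀ x ∈ X, b x = 0) := by
  let a := LinearMap.ofIsCompl hc (φ.comp X.subtype) 0
  refine ⟨a, φ - a, by simp, fun k hk => ?_, fun x hx => ?_⟩
  · simpa using LinearMap.ofIsCompl_apply_right hc (φ := φ.comp X.subtype) (ψ := 0) ⟨k, hk⟩
  · have := LinearMap.ofIsCompl_apply_left hc (φ := φ.comp X.subtype) (ψ := 0) ⟨x, hx⟩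
    simp only [LinearMap.sub_apply, sub_eq_zero, a]
    simpa using this.symm

theorem exists_ne_zero (hc : IsCompl X K) {φ : Dual (ZMod p) V} (hK : ∀ k ∈ K, φ k = 0) (h : φ ≠ 0) :
    ∃ a ∈ X, φ a ≠ 0 := by
  by_contra hn
  push Not at hn
  exact h (dual_ext hc (fun x hx => by simpa using hn x hx) (fun k hk => by simpa using hK k hk))

end Compl

/-- two nonzero functionals are simultaneously nonzero somewhere -/
theorem exists_both {X : Submodule (ZMod p) V} {f g : Dual (ZMod p) V} (hf : ∃ a ∈ X, f a ≠ 0)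
    (hg : ∃ a ∈ X, g a ≠ 0) : ∃ a ∈ X, f a ≠ 0 ∧ g a ≠ 0 := by
  obtain ⟨a, ha, hfa⟩ := hf
  obtain ⟨b, hb, hgb⟩ := hg
  by_cases h1 : g a = 0
  · by_cases h2 : f b = 0
    · exact ⟨a + b, X.add_mem ha hb, by simp [h2, hfa], by simp [h1, hgb]⟩
    · exact ⟨b, hb, h2, hgb⟩
  · exact ⟨a, ha, hfa, h1⟩

variable (H : Subgroup (V ≃ₗ[ZMod p] V))

/-- all transvections of `SL X` extended trivially on `K` lie in `H` -/
def SLc (X K : Submodule (ZMod p) V) : Prop :=
  ∀ a ∈ X, ∀ φ : Dual (ZMod p) V, (∀ k ∈ K, φ k = 0) → φ a = 0 → Tv H a φ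

/-- all symplectic transvections of `(X, B)` extended trivially on `K` lie in `H` -/
structure SPc (X K : Submodule (ZMod p) V) (B : V →ₗ[ZMod p] Dual (ZMod p) V) : Prop where
  alt : ∀ v, B v v = 0
  rad : ∀ k ∈ K, B k = 0
  nondeg : ∀ x ∈ X, (∀ y ∈ X, B x y = 0) → x = 0
  tv : ∀ a ∈ X, Tv H a (B a)

/-- an `SL` or `Sp` block -/
def Blk (X K : Submodule (ZMod p) V) : Prop :=
  IsCompl X K ∧ 2 ≤ finrank (ZMod p) X ∧
    ((SLc H X K ∧ 3 ≤ finrank (ZMod p) X) ∨ ∃ B, SPc H X K B)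

open scoped Classical in
/-- size of a block, `SL` beating `Sp` -/
noncomputable def mu (X K : Submodule (ZMod p) V) : ℕ :=
  2 * finrank (ZMod p) X + if SLc H X K ∧ 3 ≤ finrank (ZMod p) X then 1 else 0

/-- the block can be enlarged -/
def Ext (X K : Submodule (ZMod p) V) : Prop :=
  ∃ Y K', Blk H Y K' ∧ X ≤ Y ∧ mu H X K < mu H Y K'

variable {H} {X K : Submodule (ZMod p) V} {B : V →ₗ[ZMod p] Dual (ZMod p) V}

theorem SPc.skew (h : SPc H X K B) (u v : V) : B u v = - B v u := by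
  have := h.alt (u + v)
  simp [map_add, h.alt] at this
  linear_combination this

theorem SPc.radR (h : SPc H X K B) (a : V) : ∀ k ∈ K, B a k = 0 := fun k hk => by
  rw [h.skew, h.rad k hk]; simp

theorem SPc.exists_eq (h : SPc H X K B) (hc : IsCompl X K) {φ : Dual (ZMod p) V}
    (hK : ∀ k ∈ K, φ k = 0) : ∃ a ∈ X, φ = B a := by
  let f : X →ₗ[ZMod p] Dual (ZMod p) X := (X.subtype.dualMap).comp (B.comp X.subtype)
  have hf : Function.Injective f := by
    rw [← LinearMap.ker_eq_bot]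
    refine (Submodule.eq_bot_iff _).mpr fun x hx => Subtype.ext (h.nondeg x x.2 fun y hy => ?_)
    exact LinearMap.congr_fun hx ⟨y, hy⟩
  have hs : Function.Surjective f :=
    (LinearMap.injective_iff_surjective_of_finrank_eq_finrank (Subspace.dual_finrank_eq).symm).mp hf
  obtain ⟨a, ha⟩ := hs (φ.comp X.subtype)
  refine ⟨a, a.2, dual_ext hc (fun x hx => ?_) (fun k hk => ?_)⟩
  · exact (LinearMap.congr_fun ha ⟨x, hx⟩).symm
  · rw [hK k hk, h.radR _ k hk]

theorem SPc.exists_pair (h : SPc H X K B) {x : V} (hx : x ∈ X) (h0 : x ≠ 0) :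
    ∃ y ∈ X, B x y ≠ 0 := by
  by_contra hn; push Not at hn; exact h0 (h.nondeg x hx hn)

theorem SPc.apply_ne (h : SPc H X K B) {x : V} (hx : x ∈ X) (h0 : x ≠ 0) : B x ≠ 0 := by
  obtain ⟨y, _, hy⟩ := h.exists_pair hx h0
  intro hB; exact hy (by simp [hB])

/-- roots seeing a given vector -/
theorem Blk.root_vec (hb : Blk H X K) {x : V} (hx : x ∈ X) (h0 : x ≠ 0) :
    ∃ a ∈ X, ∃ φ : Dual (ZMod p) V, a ≠ 0 ∧ (∀ k ∈ K, φ k = 0) ∧ Tv H a φ ∧ φ x ≠ 0 := by
  obtain ⟨hc, hr, hkind | ⟨B, hB⟩⟩ := hb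
  · obtain ⟨hsl, -⟩ := hkind
    have hlt : ¬ X ≤ Submodule.span (ZMod p) {x} := fun h => by
      have := Submodule.finrank_mono h
      rw [finrank_span_singleton h0] at this; omega
    obtain ⟨a, ha, hax⟩ := SetLike.not_le_iff_exists.mp hlt
    have hxn : x ∉ Submodule.span (ZMod p) {a} ⊔ K := by
      intro hmem
      obtain ⟨w, hw, k, hk, hwk⟩ := Submodule.mem_sup.mp hmem
      obtain ⟨c, rfl⟩ := Submodule.mem_span_singleton.mp hw
      have hkX : k ∈ X := by
        rw [show k = x - c • a by rw [← hwk]; abel]; exact X.sub_mem hx (X.smul_mem c ha)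
      have hk0 : k = 0 := Submodule.disjoint_def.mp hc.disjoint k hkX hk
      rw [hk0, add_zero] at hwk
      have hcne : c ≠ 0 := fun h => h0 (by rw [← hwk, h, zero_smul])
      exact hax (Submodule.mem_span_singleton.mpr ⟨c⁻¹, by rw [← hwk, smul_smul, inv_mul_cancel₀ hcne, one_smul]⟩)
    obtain ⟨f, hf, hfx⟩ := exists_sep _ hxn
    refine ⟨a, ha, f, fun h => hax (h ▸ Submodule.zero_mem _), fun k hk => hf k (Submodule.mem_sup_right hk), ?_, hfx⟩
    exact hsl a ha f (fun k hk => hf k (Submodule.mem_sup_right hk))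
      (hf a (Submodule.mem_sup_left (Submodule.mem_span_singleton_self a)))
  · obtain ⟨a, ha, hxa⟩ := hB.exists_pair hx h0
    refine ⟨a, ha, B a, ?_, hB.radR a, hB.tv a ha, ?_⟩
    · rintro rfl; exact hxa (map_zero _)
    · rw [hB.skew]; simpa using hxa

/-- roots moved by a given functional -/
theorem Blk.root_dual (hb : Blk H X K) {ψ : Dual (ZMod p) V} (hψ : ∃ a ∈ X, ψ a ≠ 0) :
    ∃ a ∈ X, ∃ φ : Dual (ZMod p) V, φ ≠ 0 ∧ (∀ k ∈ K, φ k = 0) ∧ Tv H a φ ∧ ψ a ≠ 0 := by
  obtain ⟨a, ha, hψa⟩ := hψ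
  have ha0 : a ≠ 0 := by rintro rfl; exact hψa (map_zero _)
  obtain ⟨hc, hr, hkind | ⟨B, hB⟩⟩ := hb
  · obtain ⟨hsl, -⟩ := hkind
    have hlt : ¬ X ≤ Submodule.span (ZMod p) {a} ⊔ K := fun h => by
      have h1 : X ≤ Submodule.span (ZMod p) {a} := fun z hz => by
        obtain ⟨w, hw, k, hk, rfl⟩ := Submodule.mem_sup.mp (h hz)
        have hwX : w ∈ X := (Submodule.span_singleton_le_iff_mem a X).mpr ha hw
        have hk0 : k = 0 := Submodule.disjoint_def.mp hc.disjoint k
          (by simpa using X.sub_mem hz hwX) hk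
        simpa [hk0] using hw
      have := Submodule.finrank_mono h1
      rw [finrank_span_singleton ha0] at this; omega
    obtain ⟨z, -, hz⟩ := SetLike.not_le_iff_exists.mp hlt
    obtain ⟨f, hf, hfz⟩ := exists_sep _ hz
    refine ⟨a, ha, f, fun h => hfz (by simp [h]), fun k hk => hf k (Submodule.mem_sup_right hk), ?_, hψa⟩
    exact hsl a ha f (fun k hk => hf k (Submodule.mem_sup_right hk))
      (hf a (Submodule.mem_sup_left (Submodule.mem_span_singleton_self a)))
  · exact ⟨a, ha, B a, hB.apply_ne ha ha0, hB.radR a, hB.tv a ha, hψa⟩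

/-- a centre outside with one axis in the block has all of them -/
theorem Blk.spreadAxis (hb : Blk H X K) {k : V} (hk : k ∈ K) {φ₀ : Dual (ZMod p) V}
    (hK : ∀ z ∈ K, φ₀ z = 0) (h0 : φ₀ ≠ 0) (ht : Tv H k φ₀) :
    ∀ φ : Dual (ZMod p) V, (∀ z ∈ K, φ z = 0) → Tv H k φ := by
  obtain ⟨hc, hr, hkind⟩ := hb
  obtain ⟨a₀, ha₀, hφa₀⟩ := exists_ne_zero hc hK h0
  intro φ hφ
  rcases hkind with ⟨hsl, -⟩ | ⟨B, hB⟩
  · by_cases h : ∃ a ∈ X, φ a = 0 ∧ φ₀ a ≠ 0
    · obtain ⟨a, ha, hφa, hφ₀a⟩ := h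
      exact (hsl a ha φ hφ hφa).oneWay ht (hφ k hk) hφ₀a
    push Not at h
    have hb0 : φ a₀ ≠ 0 := fun h' => hφa₀ (h a₀ ha₀ h')
    have : φ₀ = (φ₀ a₀ / φ a₀) • φ := by
      refine dual_ext hc (fun x hx => ?_) (fun z hz => by simp [hK z hz, hφ z hz])
      have h1 := h (x - (φ x / φ a₀) • a₀) (X.sub_mem hx (X.smul_mem _ ha₀))
        (by simp [div_mul_cancel₀ _ hb0])
      simp only [map_sub, map_smul, smul_eq_mul, sub_eq_zero] at h1
      simp [h1]; field_simp
    rw [this] at ht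
    exact ht.of_smulRight (div_ne_zero hφa₀ hb0)
  · obtain ⟨a, ha, rfl⟩ := hB.exists_eq hc hφ
    have key : ∀ b ∈ X, φ₀ b ≠ 0 → Tv H k (B b) := fun b hb' hne =>
      (hB.tv b hb').oneWay ht (hB.radR b k hk) hne
    by_cases h : φ₀ a = 0
    · have h1 := (key (a + a₀) (X.add_mem ha ha₀) (by simp [h, hφa₀])).subRight (key a₀ ha₀ hφa₀)
      simpa using h1
    · exact key a ha h

/-- an axis outside with one centre in the block has all of them -/
theorem Blk.spreadCentre (hb : Blk H X K) {a₀ : V} (ha₀ : a₀ ∈ X) (h0 : a₀ ≠ 0)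
    {γ : Dual (ZMod p) V} (hγ : ∀ x ∈ X, γ x = 0) (ht : Tv H a₀ γ) : ∀ a ∈ X, Tv H a γ := by
  obtain ⟨hc, hr, hkind⟩ := hb
  intro a ha
  rcases hkind with ⟨hsl, -⟩ | ⟨B, hB⟩
  · by_cases h : a₀ ∈ Submodule.span (ZMod p) {a} ⊔ K
    · obtain ⟨w, hw, k, hk, hwk⟩ := Submodule.mem_sup.mp h
      obtain ⟨c, rfl⟩ := Submodule.mem_span_singleton.mp hw
      have hk0 : k = 0 := Submodule.disjoint_def.mp hc.disjoint k
        (by rw [show k = a₀ - c • a by rw [← hwk]; abel]; exact X.sub_mem ha₀ (X.smul_mem c ha)) hk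
      rw [hk0, add_zero] at hwk
      have hcne : c ≠ 0 := fun h' => h0 (by rw [← hwk, h', zero_smul])
      rw [← hwk] at ht
      exact ht.of_smulLeft hcne
    obtain ⟨f, hf, hfa₀⟩ := exists_sep _ h
    exact ht.oneWay (hsl a ha f (fun k hk => hf k (Submodule.mem_sup_right hk))
      (hf a (Submodule.mem_sup_left (Submodule.mem_span_singleton_self a)))) (hγ a ha) hfa₀
  · have key : ∀ b ∈ X, B b a₀ ≠ 0 → Tv H b γ := fun b hb' hne =>
      ht.oneWay (hB.tv b hb') (hγ b hb') hne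
    obtain ⟨b, hb', hne⟩ := hB.exists_pair ha₀ h0
    have hne' : B b a₀ ≠ 0 := by rw [hB.skew]; simpa using hne
    by_cases h : B a a₀ = 0
    · have h1 := (key (a + b) (X.add_mem ha hb') (by simp [h, hne'])).subLeft (key b hb' hne')
      simpa using h1
    · exact key a ha h

theorem finrank_lt_sup {X : Submodule (ZMod p) V} {k : V} (hk : k ∉ X) :
    finrank (ZMod p) X < finrank (ZMod p) ↥(X ⊔ Submodule.span (ZMod p) {k}) := by
  refine Submodule.finrank_lt_finrank_of_lt (lt_of_le_of_ne le_sup_left fun h => hk ?_)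
  rw [h]
  exact Submodule.mem_sup_right (Submodule.mem_span_singleton_self k)

theorem mu_lt_of_finrank_lt {Y K' : Submodule (ZMod p) V}
    (h : finrank (ZMod p) X < finrank (ZMod p) Y) : mu H X K < mu H Y K' := by
  unfold mu; split_ifs <;> omega

/-- one new point and one new hyperplane make a larger `SL` block -/
theorem Blk.extendSL (hb : Blk H X K) {k : V} (hk : k ∈ K) {γ : Dual (ZMod p) V}
    (hγX : ∀ x ∈ X, γ x = 0) (hγk : γ k ≠ 0)
    (hA : ∀ φ : Dual (ZMod p) V, (∀ z ∈ K, φ z = 0) → Tv H k φ) (hC : ∀ a ∈ X, Tv H a γ) :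
    Ext H X K := by
  obtain ⟨hc, hr, -⟩ := hb
  have hk0 : k ≠ 0 := by rintro rfl; exact hγk (map_zero _)
  have hkX : k ∉ X := fun h => hk0 (Submodule.disjoint_def.mp hc.disjoint k h hk)
  have hlt := finrank_lt_sup hkX
  set Y := X ⊔ Submodule.span (ZMod p) {k}
  have hcompl : IsCompl Y (K ⊓ LinearMap.ker γ) := by
    constructor
    · rw [Submodule.disjoint_def]
      intro y hy hy'
      obtain ⟨hyK, hyγ⟩ := Submodule.mem_inf.mp hy'
      obtain ⟨a, ha, w, hw, rfl⟩ := Submodule.mem_sup.mp hy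
      obtain ⟨d, rfl⟩ := Submodule.mem_span_singleton.mp hw
      have ha0 : a = 0 := Submodule.disjoint_def.mp hc.disjoint a ha
        (by simpa using K.sub_mem hyK (K.smul_mem d hk))
      simp [ha0, LinearMap.mem_ker, hγk] at hyγ
      simp [ha0, hyγ]
    · rw [codisjoint_iff, eq_top_iff]
      intro v _
      obtain ⟨a, ha, z, hz, rfl⟩ := exists_split hc v
      refine Submodule.mem_sup.mpr ⟨a + (γ z / γ k) • k,
        Submodule.add_mem_sup ha (Submodule.smul_mem _ _ (Submodule.mem_span_singleton_self k)),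
        z - (γ z / γ k) • k, Submodule.mem_inf.mpr ⟨K.sub_mem hz (K.smul_mem _ hk), ?_⟩, by abel⟩
      simp [div_mul_cancel₀ _ hγk]
  have hsl : SLc H Y (K ⊓ LinearMap.ker γ) := by
    intro u hu φ hφ hφu
    obtain ⟨a, ha, w, hw, rfl⟩ := Submodule.mem_sup.mp hu
    obtain ⟨d, rfl⟩ := Submodule.mem_span_singleton.mp hw
    set c := φ k / γ k
    set φX := φ - c • γ
    have hφX : ∀ z ∈ K, φX z = 0 := by
      intro z hz
      have h1 := hφ (z - (γ z / γ k) • k) (Submodule.mem_inf.mpr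
        ⟨K.sub_mem hz (K.smul_mem _ hk), by simp [div_mul_cancel₀ _ hγk]⟩)
      simp only [map_sub, map_smul, smul_eq_mul, sub_eq_zero] at h1
      simp [φX, c, h1]; field_simp; ring
    have hφ_eq : φ = φX + c • γ := by simp [φX]
    have hφXk : φX k = 0 := hφX k hk
    have hsum : φX a + c * d * γ k = 0 := by
      rw [hφ_eq] at hφu
      simp [hφXk, hγX a ha] at hφu
      linear_combination hφu
    have hroot : φX a = 0 → Tv H a φX := fun h0 => (hA φX hφX).oneWay (hC a ha) h0 hγk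
    rw [hφ_eq]
    by_cases hc0 : c = 0
    · rw [hc0, zero_smul, add_zero]
      refine (hroot ?_).addLeft ((hA φX hφX).smulLeft d)
      simpa [hc0] using hsum
    by_cases hd0 : d = 0
    · rw [hd0, zero_smul, add_zero]
      refine (hroot ?_).addRight ((hC a ha).smulRight c)
      simpa [hd0] using hsum
    have hne : φX a ≠ 0 := by
      intro h; rw [h, zero_add] at hsum
      exact mul_ne_zero (mul_ne_zero hc0 hd0) hγk hsum
    have h1 := (hA ((d / φX a) • φX) (fun z hz => by simp [hφX z hz])).conj ((hC a ha).smulRight c)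
    have e1 : ((d / φX a) • φX) a = d := by simp [div_mul_cancel₀ _ hne]
    have e2 : c • γ - (c • γ) k • (d / φX a) • φX = φX + c • γ := by
      rw [smul_smul]
      have : (c • γ) k * (d / φX a) = -1 := by
        simp only [LinearMap.smul_apply, smul_eq_mul]
        field_simp
        linear_combination hsum
      rw [this, neg_one_smul]; abel
    rwa [e1, e2] at h1
  exact ⟨Y, K ⊓ LinearMap.ker γ, ⟨hcompl, by omega, Or.inl ⟨hsl, by omega⟩⟩, le_sup_left,
    mu_lt_of_finrank_lt hlt⟩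

/-- first kind of enlargement -/
theorem Blk.ext_of_centre (hb : Blk H X K) (hP : Paired H) {k : V} (hk : k ∈ K) (hk0 : k ≠ 0)
    {φ₀ : Dual (ZMod p) V} (hK : ∀ z ∈ K, φ₀ z = 0) (h0 : φ₀ ≠ 0) (ht : Tv H k φ₀) :
    Ext H X K := by
  obtain ⟨hc, -, -⟩ := id hb
  have hA := hb.spreadAxis hk hK h0 ht
  obtain ⟨v, β, hv, hφv, hβk⟩ := hP k φ₀ hk0 h0 ht
  obtain ⟨βX, γ, hβ, hβX, hγ⟩ := exists_dual_split hc β
  obtain ⟨x, hx, z, hz, hvxz⟩ := exists_split hc v
  have hx0 : x ≠ 0 := by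
    rintro rfl; rw [zero_add] at hvxz; subst hvxz; exact hφv (hK v hz)
  have hγk : γ k ≠ 0 := by simpa [hβ, hβX k hk] using hβk
  have hγk' : β k = γ k := by simp [hβ, hβX k hk]
  set φ := (γ k)⁻¹ • βX
  have h2 := (hA φ (fun w hw => by simp [φ, hβX w hw])).conj hv
  have e : β - β k • φ = γ := by
    rw [hγk', smul_smul, mul_inv_cancel₀ hγk, one_smul, hβ]; abel
  rw [e] at h2
  obtain ⟨a, ha, ψ, ha0, hψK, hψt, hψx⟩ := hb.root_vec hx hx0
  have hψv : ψ (v + φ v • k) ≠ 0 := by simp [hvxz, hψK z hz, hψK k hk, hψx]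
  have h3 : Tv H a γ := h2.oneWay hψt (hγ a ha) hψv
  exact hb.extendSL hk hγ hγk hA (hb.spreadCentre ha ha0 hγ h3)

/-- second kind of enlargement -/
theorem Blk.ext_of_axis (hb : Blk H X K) (hP : Paired H) {a₀ : V} (ha₀ : a₀ ∈ X) (h0 : a₀ ≠ 0)
    {γ : Dual (ZMod p) V} (hγ : ∀ x ∈ X, γ x = 0) (hγ0 : γ ≠ 0) (ht : Tv H a₀ γ) :
    Ext H X K := by
  obtain ⟨hc, -, -⟩ := id hb
  have hC := hb.spreadCentre ha₀ h0 hγ ht
  obtain ⟨v, β, hv, hγv, hβa⟩ := hP a₀ γ h0 hγ0 ht
  obtain ⟨x, hx, z, hz, rfl⟩ := exists_split hc v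
  have hγz : γ z ≠ 0 := by simpa [hγ x hx] using hγv
  set b := -((γ z)⁻¹ • x)
  have hb' : b ∈ X := X.neg_mem (X.smul_mem _ hx)
  have h2 := (hC b hb').conj hv
  have e : x + z + γ (x + z) • b = z := by
    simp [b, hγ x hx, smul_smul, mul_inv_cancel₀ hγz]
  rw [e] at h2
  obtain ⟨a, ha, ψ, hψ0, hψK, hψt, hne⟩ := hb.root_dual (ψ := β - β b • γ)
    ⟨a₀, ha₀, by simpa [hγ a₀ ha₀] using hβa⟩
  have h3 : Tv H z ψ := hψt.oneWay h2 (hψK z hz) hne
  exact hb.extendSL hz hγ hγz (hb.spreadAxis hz hψK hψ0 h3) hC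

/-- a non-symplectic transvection inside an `Sp` block gives all of `SL` -/
theorem SPc.slc (hB : SPc H X K B) (hc : IsCompl X K) {w a : V} (hw : w ∈ X) (ha : a ∈ X)
    (hwa : B w a = 0) (hi : w ∉ Submodule.span (ZMod p) {a}) (ha0 : a ≠ 0) (ht : Tv H w (B a)) :
    SLc H X K := by
  let G : V → V → Prop := fun x b => Tv H x (B b)
  have ind : ∀ {x b : V}, x ∈ X → b ∈ X → x ∉ Submodule.span (ZMod p) {b} → b ≠ 0 →
      ∃ z ∈ X, B b z = 0 ∧ B x z ≠ 0 := by
    intro x b hx hb hxb hb0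
    by_contra hn
    push Not at hn
    obtain ⟨z₀, hz₀, hz₀'⟩ := hB.exists_pair hb hb0
    refine hxb (Submodule.mem_span_singleton.mpr ⟨B x z₀ / B b z₀, ?_⟩)
    refine (sub_eq_zero.mp (hB.nondeg _ (X.sub_mem (X.smul_mem _ hb) hx) fun y hy => ?_))
    have h1 := hn (y - (B b y / B b z₀) • z₀) (X.sub_mem hy (X.smul_mem _ hz₀))
      (by simp [div_mul_cancel₀ _ hz₀'])
    simp only [map_sub, map_smul, smul_eq_mul, sub_eq_zero] at h1
    simp [h1]; field_simp; ring
  have symmSpan : ∀ {x b : V}, x ≠ 0 → x ∈ Submodule.span (ZMod p) {b} →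
      b ∈ Submodule.span (ZMod p) {x} := by
    intro x b hx0 h
    obtain ⟨c, rfl⟩ := Submodule.mem_span_singleton.mp h
    have hc0 : c ≠ 0 := fun h => hx0 (by simp [h])
    exact Submodule.mem_span_singleton.mpr ⟨c⁻¹, by rw [smul_smul, inv_mul_cancel₀ hc0, one_smul]⟩
  -- fixed centre
  have row : ∀ {x b : V}, x ∈ X → b ∈ X → x ∉ Submodule.span (ZMod p) {b} → b ≠ 0 → B x b = 0 →
      G x b → ∀ c ∈ X, B x c = 0 → G x c := by
    intro x b hx hb hxb hb0 hxb0 hG c hc hxc
    have key : ∀ d ∈ X, B x d = 0 → B b d ≠ 0 → G x d := fun d hd h1 h2 =>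
      (hB.tv d hd).oneWay hG (by rw [hB.skew, h1, neg_zero]) h2
    have hx0 : x ≠ 0 := by rintro rfl; exact hxb (Submodule.zero_mem _)
    obtain ⟨d, hd, hd1, hd2⟩ := ind hb hx (fun h => hxb (symmSpan hb0 h)) hx0
    by_cases h : B b c = 0
    · have h1 := (key (c + d) (X.add_mem hc hd) (by simp [hxc, hd1]) (by simp [h, hd2])).subRight
        (key d hd hd1 hd2)
      simpa [G] using h1
    · exact key c hc hxc h
  -- fixed axis
  have col : ∀ {x b : V}, x ∈ X → b ∈ X → x ∉ Submodule.span (ZMod p) {b} → b ≠ 0 → B x b = 0 →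
      G x b → ∀ c ∈ X, B c b = 0 → G c b := by
    intro x b hx hb hxb hb0 hxb0 hG c hc hcb
    have key : ∀ d ∈ X, B d b = 0 → B d x ≠ 0 → G d b := fun d hd h1 h2 =>
      hG.oneWay (hB.tv d hd) (by rw [hB.skew, h1, neg_zero]) h2
    obtain ⟨d, hd, hd1, hd2⟩ := ind hx hb hxb hb0
    have hd1' : B d b = 0 := by rw [hB.skew, hd1, neg_zero]
    have hd2' : B d x ≠ 0 := by rw [hB.skew]; simpa using hd2
    by_cases h : B c x = 0
    · have h1 := (key (c + d) (X.add_mem hc hd) (by simp [hcb, hd1']) (by simp [h, hd2'])).subLeft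
        (key d hd hd1' hd2')
      simpa [G] using h1
    · exact key c hc hcb h
  intro x hx φ hφ hφx
  obtain ⟨b, hb, rfl⟩ := hB.exists_eq hc hφ
  have hxb : B x b = 0 := by rw [hB.skew, hφx, neg_zero]
  by_cases h1 : B x a = 0
  · have h2 : G x a := col hw ha hi ha0 hwa ht x hx h1
    by_cases h3 : x ∈ Submodule.span (ZMod p) {a}
    · -- `x` is a multiple of `a`
      obtain ⟨c, rfl⟩ := Submodule.mem_span_singleton.mp h3
      have h4 : G w (w + a) := row hw ha hi ha0 hwa ht _ (X.add_mem hw ha) (by simp [hwa, hB.alt])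
      have hi' : w ∉ Submodule.span (ZMod p) {w + a} := fun h => hi (by
        obtain ⟨d, hd⟩ := Submodule.mem_span_singleton.mp h
        have hd1 : d ≠ 0 := fun h0 => hi (by
          rw [h0, zero_smul] at hd; rw [← hd]; exact Submodule.zero_mem _)
        have hd2 : d ≠ 1 := fun h0 => ha0 (by rw [h0, one_smul] at hd; simpa using hd)
        refine Submodule.mem_span_singleton.mpr ⟨d / (1 - d), ?_⟩
        have : d • a = (1 - d) • w := by rw [sub_smul, one_smul]; nth_rewrite 1 [← hd]; module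
        rw [div_eq_inv_mul, ← smul_smul, this, smul_smul, inv_mul_cancel₀ (sub_ne_zero.mpr hd2.symm), one_smul])
      have hwa0 : w + a ≠ 0 := fun h => hi (by
        rw [eq_neg_of_add_eq_zero_left h]
        exact Submodule.neg_mem _ (Submodule.mem_span_singleton_self a))
      have haw : B a (w + a) = 0 := by simp [hB.alt, hB.skew a w, hwa]
      have h5 : G a (w + a) := col hw (X.add_mem hw ha) hi' hwa0 (by simp [hwa, hB.alt]) h4 a ha haw
      have hi'' : a ∉ Submodule.span (ZMod p) {w + a} := fun h => hi (by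
        have := Submodule.sub_mem _ (symmSpan ha0 h) (Submodule.mem_span_singleton_self a)
        simpa using this)
      by_cases hc0 : c = 0
      · subst hc0; rw [zero_smul]; exact Tv.zero_left _
      have hab : B a b = 0 := by simpa [hc0] using hxb
      exact Tv.smulLeft (row ha (X.add_mem hw ha) hi'' hwa0 haw h5 b hb hab) c
    · exact row hx ha h3 ha0 h1 h2 b hb hxb
  · have hx0 : x ≠ 0 := by rintro rfl; simp at h1
    by_cases h2 : B x w = 0
    · -- use the axis of `w`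
      have hw0 : w ≠ 0 := fun h => hi (h ▸ Submodule.zero_mem _)
      have h4 : G a a := hB.tv a ha
      have h5 : G a w := by
        have h6 : G w (w + a) := row hw ha hi ha0 hwa ht _ (X.add_mem hw ha) (by simp [hwa, hB.alt])
        have hi' : w ∉ Submodule.span (ZMod p) {w + a} := fun h => hi (by
          obtain ⟨d, hd⟩ := Submodule.mem_span_singleton.mp h
          have hd2 : d ≠ 1 := fun h0 => ha0 (by rw [h0, one_smul] at hd; simpa using hd)
          refine Submodule.mem_span_singleton.mpr ⟨d / (1 - d), ?_⟩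
          have : d • a = (1 - d) • w := by rw [sub_smul, one_smul]; nth_rewrite 1 [← hd]; module
          rw [div_eq_inv_mul, ← smul_smul, this, smul_smul, inv_mul_cancel₀ (sub_ne_zero.mpr hd2.symm), one_smul])
        have hwa0 : w + a ≠ 0 := fun h => hi (by
          rw [eq_neg_of_add_eq_zero_left h]
          exact Submodule.neg_mem _ (Submodule.mem_span_singleton_self a))
        have haw : B a (w + a) = 0 := by simp [hB.alt, hB.skew a w, hwa]
        have h7 : G a (w + a) := col hw (X.add_mem hw ha) hi' hwa0 (by simp [hwa, hB.alt]) h6 a ha haw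
        simpa [G] using h7.subRight h4
      have hi2 : a ∉ Submodule.span (ZMod p) {w} := fun h => hi (symmSpan ha0 h)
      have haw : B a w = 0 := by rw [hB.skew, hwa, neg_zero]
      have h8 : G x w := col ha hw hi2 hw0 haw h5 x hx h2
      refine row hx hw (fun h => h1 ?_) hw0 h2 h8 b hb hxb
      obtain ⟨d, rfl⟩ := Submodule.mem_span_singleton.mp h
      simp [hwa]
    · set a' := B x w • a - B x a • w
      have ha' : a' ∈ X := X.sub_mem (X.smul_mem _ ha) (X.smul_mem _ hw)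
      have hwa' : B w a' = 0 := by simp [a', hwa, hB.alt]
      have hxa' : B x a' = 0 := by simp [a']; ring
      have h4 : G w a' := row hw ha hi ha0 hwa ht a' ha' hwa'
      have ha'a : B a' a = -(B x a * B w a) := by simp [a', hB.alt]
      have hi' : w ∉ Submodule.span (ZMod p) {a'} := by
        intro h
        obtain ⟨d, hd⟩ := Submodule.mem_span_singleton.mp h
        have hd0 : d ≠ 0 := fun h0 => hi (by rw [← hd, h0, zero_smul]; exact Submodule.zero_mem _)
        have e : (d * B x w) • a = (1 + d * B x a) • w := by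
          have hd' := hd
          simp only [a', smul_sub, smul_smul, sub_eq_iff_eq_add] at hd'
          rw [hd', add_smul, one_smul]
        by_cases h9 : 1 + d * B x a = 0
        · rw [h9, zero_smul] at e
          exact ha0 ((smul_eq_zero.mp e).resolve_left (mul_ne_zero hd0 h2))
        · exact hi (Submodule.mem_span_singleton.mpr ⟨(1 + d * B x a)⁻¹ * (d * B x w),
            by rw [← smul_smul, e, smul_smul, inv_mul_cancel₀ h9, one_smul]⟩)
      have ha'0 : a' ≠ 0 := fun h => hi (Submodule.mem_span_singleton.mpr ⟨B x w / B x a, by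
        rw [div_eq_inv_mul, ← smul_smul, sub_eq_zero.mp h, smul_smul, inv_mul_cancel₀ h1, one_smul]⟩)
      have h5 : G x a' := col hw ha' hi' ha'0 hwa' h4 x hx hxa'
      refine row hx ha' (fun h => ?_) ha'0 hxa' h5 b hb hxb
      obtain ⟨d, hd⟩ := Submodule.mem_span_singleton.mp h
      apply h1
      rw [← hd]
      simp [ha'a, hwa]

/-- `good or special` -/
theorem Blk.analysis (hb : Blk H X K) (hP : Paired H) (hmax : ¬ Ext H X K) {x k : V}
    {βX βK : Dual (ZMod p) V} (hx : x ∈ X) (hk : k ∈ K) (hβX : ∀ z ∈ K, βX z = 0)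
    (hβK : ∀ z ∈ X, βK z = 0) (hv : x + k ≠ 0) (hβ : βX + βK ≠ 0)
    (ht : Tv H (x + k) (βX + βK)) :
    (k = 0 ∧ βK = 0) ∨ (x = 0 ∧ βX = 0) ∨
      ∃ (B : V →ₗ[ZMod p] Dual (ZMod p) V) (c : ZMod p),
        SPc H X K B ∧ x ≠ 0 ∧ k ≠ 0 ∧ c ≠ 0 ∧ βX = c • B x ∧ βK ≠ 0 ∧ βK k = 0 := by
  obtain ⟨hc, hr, hkind⟩ := id hb
  by_cases hx0 : x = 0
  · subst hx0
    rw [zero_add] at ht hv
    by_cases hβX0 : βX = 0
    · exact Or.inr (Or.inl ⟨rfl, hβX0⟩)
    obtain ⟨a, ha, φ, hφ0, hφK, hφt, hne⟩ := hb.root_dual (exists_ne_zero hc hβX hβX0)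
    have h1 : Tv H k φ := hφt.oneWay ht (hφK k hk) (by simpa [hβK a ha] using hne)
    exact absurd (hb.ext_of_centre hP hk hv hφK hφ0 h1) hmax
  by_cases hβX0 : βX = 0
  · subst hβX0
    rw [zero_add] at ht hβ
    obtain ⟨a, ha, φ, ha0, hφK, hφt, hne⟩ := hb.root_vec hx hx0
    have h1 : Tv H a βK := ht.oneWay hφt (hβK a ha) (by simpa [hφK k hk] using hne)
    exact absurd (hb.ext_of_axis hP ha ha0 hβK hβ h1) hmax
  by_cases hkS : SLc H X K ∧ 3 ≤ finrank (ZMod p) X
  · obtain ⟨hsl, h3⟩ := hkS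
    by_cases hk0 : k = 0
    · subst hk0
      rw [add_zero] at ht
      by_cases hβK0 : βK = 0
      · exact Or.inl ⟨rfl, hβK0⟩
      have h0 : βX x = 0 := by simpa [hβK x hx] using ht.1
      have h1 : Tv H x βK := by simpa using ht.subRight (hsl x hx βX hβX h0)
      exact absurd (hb.ext_of_axis hP hx hx0 hβK hβK0 h1) hmax
    obtain ⟨a, ha, hne⟩ := exists_ne_zero hc hβX hβX0
    have hW : ¬ X ≤ Submodule.span (ZMod p) {x} ⊔ Submodule.span (ZMod p) {a} := fun h => by
      have h1 := Submodule.finrank_mono h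
      have h2 := Submodule.finrank_add_le_finrank_add_finrank
        (Submodule.span (ZMod p) {x}) (Submodule.span (ZMod p) {a})
      have h4 : finrank (ZMod p) ↥(Submodule.span (ZMod p) {x}) = 1 := finrank_span_singleton hx0
      have h5 : finrank (ZMod p) ↥(Submodule.span (ZMod p) {a}) = 1 :=
        finrank_span_singleton (fun h => hne (by simp [h]))
      omega
    obtain ⟨z, hz, hzn⟩ := SetLike.not_le_iff_exists.mp hW
    have hzn' : z ∉ (Submodule.span (ZMod p) {x} ⊔ Submodule.span (ZMod p) {a}) ⊔ K := fun h => by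
      obtain ⟨w, hw, q, hq, rfl⟩ := Submodule.mem_sup.mp h
      have hwX : w ∈ X := sup_le ((Submodule.span_singleton_le_iff_mem _ _).mpr hx)
        ((Submodule.span_singleton_le_iff_mem _ _).mpr ha) hw
      have : q = 0 := Submodule.disjoint_def.mp hc.disjoint q (by simpa using X.sub_mem hz hwX) hq
      exact hzn (by simpa [this] using hw)
    obtain ⟨f, hf, hfz⟩ := exists_sep _ hzn'
    have hfK : ∀ q ∈ K, f q = 0 := fun q hq => hf q (Submodule.mem_sup_right hq)
    have hfx : f x = 0 := hf x (Submodule.mem_sup_left (Submodule.mem_sup_left (Submodule.mem_span_singleton_self x)))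
    have hfa : f a = 0 := hf a (Submodule.mem_sup_left (Submodule.mem_sup_right (Submodule.mem_span_singleton_self a)))
    have h1 : Tv H (x + k) f := (hsl a ha f hfK hfa).oneWay ht (by simp [hfx, hfK k hk])
      (by simpa [hβK a ha] using hne)
    have h2 : Tv H k f := by simpa using h1.subLeft (hsl x hx f hfK hfx)
    exact absurd (hb.ext_of_centre hP hk hk0 hfK (fun h => hfz (by simp [h])) h2) hmax
  obtain ⟨B, hB⟩ := hkind.resolve_left hkS
  obtain ⟨y, hy, rfl⟩ := hB.exists_eq hc hβX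
  have hy0 : y ≠ 0 := by rintro rfl; exact hβX0 (map_zero _)
  have hsum : B y x + βK k = 0 := by simpa [hβK x hx, hB.radR y k hk] using ht.1
  by_cases hyx : B x y = 0
  swap
  · have hyx' : B y x ≠ 0 := by rw [hB.skew]; simpa using hyx
    have hk0 : k ≠ 0 := by rintro rfl; simp at hsum; exact hyx' hsum
    have h1 : Tv H (x + k) (B x) := (hB.tv x hx).oneWay ht (by simp [hB.alt, hB.radR x k hk])
      (by simpa [hβK x hx] using hyx')
    have h2 : Tv H k (B x) := by simpa using h1.subLeft (hB.tv x hx)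
    exact absurd (hb.ext_of_centre hP hk hk0 (hB.radR x) (hB.apply_ne hx hx0) h2) hmax
  by_cases hy' : y ∈ Submodule.span (ZMod p) {x}
  · obtain ⟨c, rfl⟩ := Submodule.mem_span_singleton.mp hy'
    have hc0 : c ≠ 0 := fun h => hy0 (by simp [h])
    have hkk : βK k = 0 := by simpa [hB.alt] using hsum
    rw [map_smul] at ht ⊢
    by_cases hk0 : k = 0
    · subst hk0
      rw [add_zero] at ht
      by_cases hβK0 : βK = 0
      · exact Or.inl ⟨rfl, hβK0⟩
      have h1 : Tv H x βK := by simpa using ht.subRight ((hB.tv x hx).smulRight c)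
      exact absurd (hb.ext_of_axis hP hx hx0 hβK hβK0 h1) hmax
    by_cases hβK0 : βK = 0
    · subst hβK0
      rw [add_zero] at ht
      have h1 : Tv H k (c • B x) := by simpa using ht.subLeft ((hB.tv x hx).smulRight c)
      exact absurd (hb.ext_of_centre hP hk hk0 (hB.radR x) (hB.apply_ne hx hx0)
        (h1.of_smulRight hc0)) hmax
    exact Or.inr (Or.inr ⟨B, c, hB, hx0, hk0, hc0, rfl, hβK0, hkk⟩)
  exfalso
  apply hmax
  obtain ⟨a, ha, hax, hay⟩ : ∃ a ∈ X, B x a = 0 ∧ B y a ≠ 0 := by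
    by_contra hn
    push Not at hn
    obtain ⟨z₀, hz₀, hz₀'⟩ := hB.exists_pair hx hx0
    refine hy' (Submodule.mem_span_singleton.mpr ⟨B y z₀ / B x z₀, ?_⟩)
    refine (sub_eq_zero.mp (hB.nondeg _ (X.sub_mem (X.smul_mem _ hx) hy) fun w hw => ?_))
    have h1 := hn (w - (B x w / B x z₀) • z₀) (X.sub_mem hw (X.smul_mem _ hz₀))
      (by simp [div_mul_cancel₀ _ hz₀'])
    simp only [map_sub, map_smul, smul_eq_mul, sub_eq_zero] at h1
    simp [h1]; field_simp; ring
  have ha0 : a ≠ 0 := fun h => hay (by simp [h])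
  have hxa : x ∉ Submodule.span (ZMod p) {a} := fun h => by
    obtain ⟨d, hd⟩ := Submodule.mem_span_singleton.mp h
    have hd0 : d ≠ 0 := fun h0 => hx0 (by rw [← hd, h0, zero_smul])
    apply hay
    have : B x y = d * B a y := by rw [← hd]; simp
    rw [hyx] at this
    have h9 := (mul_eq_zero.mp this.symm).resolve_left hd0
    rw [hB.skew, h9, neg_zero]
  have h1 : Tv H (x + k) (B a) := (hB.tv a ha).oneWay ht
    (by simp [hB.radR a k hk, hB.skew a x, hax]) (by simpa [hβK a ha] using hay)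
  obtain ⟨f, hf, hfx⟩ := exists_sep (Submodule.span (ZMod p) {a} ⊔ K) (x := x) (fun h => by
    obtain ⟨w, hw, q, hq, hwq⟩ := Submodule.mem_sup.mp h
    have hwX : w ∈ X := (Submodule.span_singleton_le_iff_mem _ _).mpr ha hw
    have : q = 0 := Submodule.disjoint_def.mp hc.disjoint q
      (by rw [show q = x - w by rw [← hwq]; abel]; exact X.sub_mem hx hwX) hq
    exact hxa (by rw [this, add_zero] at hwq; rwa [← hwq]))
  obtain ⟨w, hw, rfl⟩ := hB.exists_eq hc (fun q hq => hf q (Submodule.mem_sup_right hq))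
  have hwa : B w a = 0 := hf a (Submodule.mem_sup_left (Submodule.mem_span_singleton_self a))
  have h2 : Tv H w (B a) := h1.oneWay (hB.tv w hw) (by rw [hB.skew, hwa, neg_zero])
    (by simpa [hB.radR w k hk] using hfx)
  have hi : w ∉ Submodule.span (ZMod p) {a} := fun h => by
    obtain ⟨d, rfl⟩ := Submodule.mem_span_singleton.mp h
    exact hfx (by simp [hB.skew a x, hax])
  have hsl : SLc H X K := hB.slc hc hw ha hwa hi ha0 h2
  have h3 : 3 ≤ finrank (ZMod p) X := by
    by_contra hlt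
    have hle : Submodule.span (ZMod p) {a} < X := lt_of_le_of_ne
      ((Submodule.span_singleton_le_iff_mem _ _).mpr ha) fun h => hi (h ▸ hw)
    have hle2 : Submodule.span (ZMod p) {a} ⊔ Submodule.span (ZMod p) {w} = X := by
      refine Submodule.eq_of_le_of_finrank_le (sup_le hle.le ((Submodule.span_singleton_le_iff_mem _ _).mpr hw)) ?_
      have h4 := finrank_lt_sup hi
      have h5 : finrank (ZMod p) ↥(Submodule.span (ZMod p) {a}) = 1 := finrank_span_singleton ha0
      omega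
    refine hi ((hB.nondeg w hw fun z hz => ?_).symm ▸ Submodule.zero_mem _)
    rw [← hle2] at hz
    obtain ⟨q, hq, r, hr', rfl⟩ := Submodule.mem_sup.mp hz
    obtain ⟨d, rfl⟩ := Submodule.mem_span_singleton.mp hq
    obtain ⟨e, rfl⟩ := Submodule.mem_span_singleton.mp hr'
    simp [hwa, hB.alt]
  exact absurd ⟨hsl, h3⟩ hkS

end Cfsg.Agent.Lib.H66.Transvection
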