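import Cfsg.Agent.Lib.H66.Transvection.Block
import Cfsg.Agent.Lib.LinGroup.Generation

/-!
A block generates the special linear group, resp. the symplectic group, of its subspace.
-/

set_option autoImplicit false

namespace Cfsg.Agent.Lib.H66.Transvection

open Module

variable {p : ℕ} [Fact p.Prime] {V : Type*} [AddCommGroup V] [Module (ZMod p) V] [Finite V]
variable {H : Subgroup (V ≃ₗ[ZMod p] V)} {X K : Submodule (ZMod p) V}
  {B : V →ₗ[ZMod p] Dual (ZMod p) V}

/-- the underlying map of `extend` -/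
noncomputable def extendFun (hc : IsCompl X K) (f : X ≃ₗ[ZMod p] X) : V ≃ₗ[ZMod p] V :=
  ((X.prodEquivOfIsCompl K hc).symm.trans (f.prodCongr (LinearEquiv.refl _ K))).trans
    (X.prodEquivOfIsCompl K hc)

theorem extendFun_apply (hc : IsCompl X K) (f : X ≃ₗ[ZMod p] X) {x k : V} (hx : x ∈ X) (hk : k ∈ K) :
    extendFun hc f (x + k) = (f ⟨x, hx⟩ : V) + k := by
  have h : (X.prodEquivOfIsCompl K hc).symm (x + k) = (⟨x, hx⟩, ⟨k, hk⟩) := by
    rw [LinearEquiv.symm_apply_eq]; simp
  simp only [extendFun, LinearEquiv.trans_apply, h]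
  simp

/-- an automorphism of `X` extended trivially on a complement -/
noncomputable def extend (hc : IsCompl X K) : (X ≃ₗ[ZMod p] X) →* (V ≃ₗ[ZMod p] V) where
  toFun f := extendFun hc f
  map_one' := by
    ext v; obtain ⟨x, hx, k, hk, rfl⟩ := exists_split hc v
    rw [extendFun_apply hc _ hx hk]; rfl
  map_mul' f g := by
    ext v; obtain ⟨x, hx, k, hk, rfl⟩ := exists_split hc v
    rw [LinearEquiv.mul_apply, extendFun_apply hc _ hx hk, extendFun_apply hc _ hx hk,
      extendFun_apply hc _ (g ⟨x, hx⟩).2 hk]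
    rfl

theorem extend_apply (hc : IsCompl X K) (f : X ≃ₗ[ZMod p] X) {x k : V} (hx : x ∈ X) (hk : k ∈ K) :
    extend hc f (x + k) = (f ⟨x, hx⟩ : V) + k := extendFun_apply hc f hx hk

theorem eq_extend (hc : IsCompl X K) (f : X ≃ₗ[ZMod p] X) {g : V ≃ₗ[ZMod p] V}
    (hX : ∀ x : X, g x = f x) (hK : ∀ k ∈ K, g k = k) : g = extend hc f := by
  ext v
  obtain ⟨x, hx, k, hk, rfl⟩ := exists_split hc v
  rw [extend_apply hc f hx hk, map_add, hK k hk]
  exact congrArg (· + k) (hX ⟨x, hx⟩)

/-- the `SL` block contains all of `SL X` -/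
theorem mem_of_det_eq_one {S : Subgroup (V ≃ₗ[ZMod p] V)} (hc : IsCompl X K)
    (hS : ∀ a ∈ X, ∀ φ : Dual (ZMod p) V, (∀ k ∈ K, φ k = 0) → φ a = 0 → tv a φ ∈ S)
    (f : X ≃ₗ[ZMod p] X) (hf : LinearMap.det (f : X →ₗ[ZMod p] X) = 1) : extend hc f ∈ S := by
  classical
  let b := Module.finBasis (ZMod p) X
  let Θ : Matrix.SpecialLinearGroup (Fin (finrank (ZMod p) X)) (ZMod p) →* (V ≃ₗ[ZMod p] V) :=
    (extend hc).comp
      { toFun := fun A => (b.equivFun.trans (Matrix.SpecialLinearGroup.toLin' A)).trans b.equivFun.symm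
        map_one' := by ext x; simp
        map_mul' := fun A A' => LinearEquiv.ext fun x => by
          simp only [map_mul, LinearEquiv.mul_apply, LinearEquiv.trans_apply, LinearEquiv.apply_symm_apply] }
  have htr : ∀ (i j : Fin (finrank (ZMod p) X)) (hij : i ≠ j) (c : ZMod p),
      Θ (Matrix.SpecialLinearGroup.transvection hij c) ∈ S := by
    intro i j hij c
    let φ : Dual (ZMod p) V := LinearMap.ofIsCompl hc (c • b.coord j) 0
    have hφK : ∀ k ∈ K, φ k = 0 := fun k hk => by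
      simpa using LinearMap.ofIsCompl_apply_right hc (φ := c • b.coord j) (ψ := 0) ⟨k, hk⟩
    have hφX : ∀ x : X, φ x = c * b.repr x j := fun x => by
      show LinearMap.ofIsCompl hc (c • b.coord j) 0 (x : V) = _
      rw [LinearMap.ofIsCompl_apply_left]; simp
    have hφi : φ (b i : V) = 0 := by rw [hφX]; simp [hij]
    have e : tv (b i : V) φ = Θ (Matrix.SpecialLinearGroup.transvection hij c) := by
      refine eq_extend hc _ (fun x => ?_) (fun k hk => by simp [tv_apply hφi, hφK k hk])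
      rw [tv_apply hφi, hφX]
      show _ = ((b.equivFun.symm
        (Matrix.SpecialLinearGroup.toLin' (Matrix.SpecialLinearGroup.transvection hij c) (b.equivFun x)) : X) : V)
      have : Matrix.SpecialLinearGroup.toLin' (Matrix.SpecialLinearGroup.transvection hij c) (b.equivFun x) =
          b.equivFun (x + (c * b.repr x j) • b i) := by
        rw [Matrix.SpecialLinearGroup.toLin'_apply]
        ext k
        rw [Matrix.toLin'_apply, Cfsg.Agent.Lib.LinGroup.coe_transvection hij,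
          Cfsg.Agent.Lib.LinGroup.transvection_mulVec_apply]
        by_cases h : k = i
        · subst h; simp [Basis.equivFun_apply]
        · simp [Basis.equivFun_apply, h, Ne.symm h]
      rw [this, LinearEquiv.symm_apply_apply]
      simp
    rw [← e]
    exact hS _ (b i).2 φ hφK hφi
  let A : Matrix.SpecialLinearGroup (Fin (finrank (ZMod p) X)) (ZMod p) :=
    ⟨LinearMap.toMatrix b b (f : X →ₗ[ZMod p] X), by rw [LinearMap.det_toMatrix, hf]⟩
  have hA : A ∈ S.comap Θ := by
    rw [Cfsg.Agent.Lib.LinGroup.eq_top_of_transvection_mem (S.comap Θ) htr]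
    trivial
  have : Θ A = extend hc f := by
    show extend hc _ = _
    congr 1
    ext x
    show ((b.equivFun.symm (Matrix.SpecialLinearGroup.toLin' A (b.equivFun x)) : X) : V) = (f x : V)
    congr 1
    rw [LinearEquiv.symm_apply_eq, Matrix.SpecialLinearGroup.toLin'_apply, Matrix.toLin'_apply]
    simpa [Basis.equivFun_apply, A] using LinearMap.toMatrix_mulVec_repr b b (f : X →ₗ[ZMod p] X) x
  rw [← this]
  exact hA

/-- the `Sp` block contains all isometries -/
theorem mem_of_isometry {S : Subgroup (V ≃ₗ[ZMod p] V)} (hc : IsCompl X K) (hB : SPc H X K B)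
    (hS : ∀ a ∈ X, ∀ c : ZMod p, tv a (c • B a) ∈ S) :
    ∀ (n : ℕ) (g : V ≃ₗ[ZMod p] V), (∀ x ∈ X, g x ∈ X) → (∀ k ∈ K, g k = k) →
      (∀ a b, B (g a) (g b) = B a b) →
      finrank (ZMod p) X ≤ n + finrank (ZMod p) ↥(X ⊓ LinearMap.ker ((g : V →ₗ[ZMod p] V) - LinearMap.id)) →
      g ∈ S := by
  have memfix : ∀ (g : V ≃ₗ[ZMod p] V) (v : V),
      v ∈ LinearMap.ker ((g : V →ₗ[ZMod p] V) - LinearMap.id) ↔ g v = v := fun g v => by
    simp [LinearMap.mem_ker, sub_eq_zero]
  intro n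
  induction n with
  | zero =>
    intro g hgX hgK _ hle
    have hE := Submodule.eq_of_le_of_finrank_le inf_le_left (by simpa using hle)
    have : g = 1 := by
      ext v
      obtain ⟨x, hx, k, hk, rfl⟩ := exists_split hc v
      have hx' : x ∈ X ⊓ LinearMap.ker ((g : V →ₗ[ZMod p] V) - LinearMap.id) := by rw [hE]; exact hx
      simp [hgK k hk, (memfix g x).mp hx'.2]
    rw [this]; exact S.one_mem
  | succ n ih =>
    intro g hgX hgK hgB hle
    by_cases hg1 : ∀ x ∈ X, g x = x
    · have : g = 1 := by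
        ext v; obtain ⟨x, hx, k, hk, rfl⟩ := exists_split hc v
        simp [hgK k hk, hg1 x hx]
      rw [this]; exact S.one_mem
    push Not at hg1
    obtain ⟨u, hu, hgu⟩ := hg1
    -- composing with a transvection orthogonal to the fixed vectors
    have good : ∀ (g : V ≃ₗ[ZMod p] V), (∀ x ∈ X, g x ∈ X) → (∀ k ∈ K, g k = k) →
        (∀ a b, B (g a) (g b) = B a b) → ∀ w ∈ X, ∀ c : ZMod p,
        (∀ s ∈ X, g s = s → B w s = 0) →
        let g' := tv w (c • B w) * g
        (∀ x ∈ X, g' x ∈ X) ∧ (∀ k ∈ K, g' k = k) ∧ (∀ a b, B (g' a) (g' b) = B a b) ∧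
          (∀ s ∈ X, g s = s → g' s = s) := by
      intro g hgX hgK hgB w hw c hws
      have h0 : (c • B w) w = 0 := by simp [hB.alt]
      refine ⟨fun x hx => ?_, fun k hk => ?_, fun a b => ?_, fun s hs hgs => ?_⟩
      · rw [LinearEquiv.mul_apply, tv_apply h0]
        exact X.add_mem (hgX x hx) (X.smul_mem _ hw)
      · rw [LinearEquiv.mul_apply, tv_apply h0, hgK k hk]
        simp [hB.radR w k hk]
      · rw [LinearEquiv.mul_apply, LinearEquiv.mul_apply, tv_apply h0, tv_apply h0]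
        simp [hgB, hB.alt, hB.skew (g a) w]
        ring
      · rw [LinearEquiv.mul_apply, tv_apply h0, hgs]
        simp [hws s hs hgs]
    have step1 : ∀ (g' : V ≃ₗ[ZMod p] V), (∀ x ∈ X, g' x ∈ X) → (∀ k ∈ K, g' k = k) →
        (∀ a b, B (g' a) (g' b) = B a b) → (∀ s ∈ X, g s = s → g' s = s) →
        ∀ v ∈ X, B (g' v) v ≠ 0 → g' ∈ S := by
      intro g' h1 h2 h3 h4 v hv hne
      have hw : g' v - v ∈ X := X.sub_mem (h1 v hv) hv
      have hws : ∀ s ∈ X, g' s = s → B (g' v - v) s = 0 := by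
        intro s hs hgs
        have := h3 v s
        rw [hgs] at this
        simp [this]
      have hne' : B v (g' v) ≠ 0 := by rw [hB.skew]; simpa using hne
      set c := (B v (g' v))⁻¹
      obtain ⟨i1, i2, i3, i4⟩ := good g' h1 h2 h3 _ hw c hws
      have hfix : (tv (g' v - v) (c • B (g' v - v)) * g') v = v := by
        rw [LinearEquiv.mul_apply, tv_apply (show (c • B (g' v - v)) (g' v - v) = 0 by simp only [LinearMap.smul_apply, hB.alt, smul_zero])]
        have : (c • B (g' v - v)) (g' v) = -1 := by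
          simp [hB.alt, c, inv_mul_cancel₀ hne']
        rw [this]; simp
      have hlt : X ⊓ LinearMap.ker ((g : V →ₗ[ZMod p] V) - LinearMap.id) < X ⊓ LinearMap.ker
          (((tv (g' v - v) (c • B (g' v - v)) * g' : V ≃ₗ[ZMod p] V) : V →ₗ[ZMod p] V) - LinearMap.id) := by
        refine lt_of_le_of_ne (fun s hs => ⟨hs.1, (memfix _ s).mpr
          (i4 s hs.1 (h4 s hs.1 ((memfix g s).mp hs.2)))⟩) fun h => ?_
        have hv' : v ∈ X ⊓ LinearMap.ker ((g : V →ₗ[ZMod p] V) - LinearMap.id) := by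
          rw [h]; exact ⟨hv, (memfix _ v).mpr hfix⟩
        have := h4 v hv ((memfix g v).mp hv'.2)
        exact hne (by rw [this]; exact hB.alt v)
      have hlt' := Submodule.finrank_lt_finrank_of_lt hlt
      have hm := ih _ i1 i2 i3 (by omega)
      have := S.mul_mem (S.inv_mem (hS _ hw c)) hm
      rwa [inv_mul_cancel_left] at this
    by_cases h : ∃ v ∈ X, B (g v) v ≠ 0
    · obtain ⟨v, hv, hne⟩ := h
      exact step1 g hgX hgK hgB (fun s _ hs => hs) v hv hne
    push Not at h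
    set F := X ⊓ LinearMap.ker ((g : V →ₗ[ZMod p] V) - LinearMap.id)
    have sep : ∀ y ∈ X, g y ≠ y → ∃ w ∈ X, (∀ s ∈ X, g s = s → B w s = 0) ∧ B w y ≠ 0 := by
      intro y hy hgy
      obtain ⟨f, hf, hfy⟩ := exists_sep (F ⊔ K) (x := y) (fun hm => by
        obtain ⟨s, hs, q, hq, rfl⟩ := Submodule.mem_sup.mp hm
        apply hgy
        rw [map_add, (memfix g s).mp hs.2, hgK q hq])
      obtain ⟨w, hw, rfl⟩ := hB.exists_eq hc (fun q hq => hf q (Submodule.mem_sup_right hq))
      exact ⟨w, hw, fun s hs hgs => hf s (Submodule.mem_sup_left ⟨hs, (memfix g s).mpr hgs⟩), hfy⟩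
    obtain ⟨w1, hw1, hw1s, hw1u⟩ := sep u hu hgu
    obtain ⟨w2, hw2, hw2s, hw2u⟩ := sep (g u) (hgX u hu) (fun h' => hgu (g.injective h'))
    obtain ⟨w, hw, hws, hwu, hwgu⟩ : ∃ w ∈ X, (∀ s ∈ X, g s = s → B w s = 0) ∧ B w u ≠ 0 ∧ B w (g u) ≠ 0 := by
      by_cases e1 : B w1 (g u) = 0
      · by_cases e2 : B w2 u = 0
        · refine ⟨w1 + w2, X.add_mem hw1 hw2, fun s hs hgs => by simp [hw1s s hs hgs, hw2s s hs hgs], ?_, ?_⟩
          · simp [e2, hw1u]
          · simp [e1, hw2u]
        · exact ⟨w2, hw2, hw2s, e2, hw2u⟩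
      · exact ⟨w1, hw1, hw1s, hw1u, e1⟩
    obtain ⟨i1, i2, i3, i4⟩ := good g hgX hgK hgB w hw 1 hws
    have hne : B ((tv w ((1 : ZMod p) • B w) * g) u) u ≠ 0 := by
      rw [LinearEquiv.mul_apply, tv_apply (by simp [hB.alt])]
      simp [h u hu, hwu, hwgu]
    have hm := step1 _ i1 i2 i3 i4 u hu hne
    have := S.mul_mem (S.inv_mem (hS w hw 1)) hm
    rwa [inv_mul_cancel_left] at this

end Cfsg.Agent.Lib.H66.Transvection
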