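import Cfsg.Agent.Lib.H66.Transvection.Maximal
import Cfsg.Agent.Lib.H66.Transvection.Generation

/-!
Root groups of blocks and the groups they induce.
-/

set_option autoImplicit false

namespace Cfsg.Agent.Lib.H66.Transvection

open Module

variable {p : ℕ} [Fact p.Prime] {V : Type*} [AddCommGroup V] [Module (ZMod p) V] [Finite V]
variable (H : Subgroup (V ≃ₗ[ZMod p] V)) (X K : Submodule (ZMod p) V)

/-- the transvections of `H` belonging to a block -/
def roots : Set (V ≃ₗ[ZMod p] V) :=
  {g | ∃ a ∈ X, ∃ φ : Dual (ZMod p) V, (∀ k ∈ K, φ k = 0) ∧ Tv H a φ ∧ g = tv a φ}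

/-- the group of a block -/
def blockGroup : Subgroup (V ≃ₗ[ZMod p] V) := Subgroup.closure (roots H X K)

variable {H X K}

theorem blockGroup_le : blockGroup H X K ≤ H := by
  rw [blockGroup, Subgroup.closure_le]
  rintro g ⟨a, -, φ, -, ht, rfl⟩
  exact ht.2

theorem blockGroup_fix {g : V ≃ₗ[ZMod p] V} (hg : g ∈ blockGroup H X K) :
    (∀ k ∈ K, g k = k) ∧ X.map (g : V →ₗ[ZMod p] V) = X := by
  induction hg using Subgroup.closure_induction with
  | mem g hg =>
    obtain ⟨a, ha, φ, hφ, ht, rfl⟩ := hg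
    refine ⟨fun k hk => by simp [tv_apply ht.1, hφ k hk], le_antisymm ?_ fun x hx => ?_⟩
    · rintro _ ⟨x, hx, rfl⟩
      simpa [tv_apply ht.1] using X.add_mem hx (X.smul_mem _ ha)
    · refine ⟨x - φ x • a, X.sub_mem hx (X.smul_mem _ ha), ?_⟩
      simp [tv_apply ht.1, ht.1]
  | one => exact ⟨fun k _ => rfl, Submodule.map_id X⟩
  | mul g g' _ _ h h' =>
    refine ⟨fun k hk => by rw [LinearEquiv.mul_apply, h'.1 k hk, h.1 k hk], ?_⟩
    rw [LinearEquiv.coe_toLinearMap_mul, Module.End.mul_eq_comp, Submodule.map_comp, h'.2, h.2]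
  | inv g _ h =>
    refine ⟨fun k hk => ?_, ?_⟩
    · rw [LinearEquiv.coe_inv, LinearEquiv.symm_apply_eq, h.1 k hk]
    · nth_rewrite 1 [← h.2]
      rw [← Submodule.map_comp, ← Module.End.mul_eq_comp, ← LinearEquiv.coe_toLinearMap_mul,
        inv_mul_cancel]
      exact Submodule.map_id X

theorem blockGroup_map {g : V ≃ₗ[ZMod p] V} (hg : g ∈ blockGroup H X K) {x : V} (hx : x ∈ X) :
    g x ∈ X := by
  rw [← (blockGroup_fix hg).2]; exact ⟨x, hx, rfl⟩

/-- groups of mutually complementary blocks commute -/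
theorem blockGroup_comm {X' K' : Submodule (ZMod p) V} (h : X' ≤ K) (h' : X ≤ K') :
    ∀ a ∈ blockGroup H X K, ∀ b ∈ blockGroup H X' K', a * b = b * a := by
  have : blockGroup H X K ≤ Subgroup.centralizer (roots H X' K' : Set (V ≃ₗ[ZMod p] V)) := by
    rw [blockGroup, Subgroup.closure_le]
    rintro g ⟨a, ha, φ, hφ, ht, rfl⟩
    rw [SetLike.mem_coe, Subgroup.mem_centralizer_iff]
    rintro g ⟨b, hb, ψ, hψ, ht', rfl⟩
    ext x
    rw [LinearEquiv.mul_apply, LinearEquiv.mul_apply, tv_apply ht.1, tv_apply ht'.1, tv_apply ht'.1,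
      tv_apply ht.1]
    simp [hφ b (h hb), hψ a (h' ha)]
    abel
  intro a ha b hb
  have h1 := this ha
  rw [← Subgroup.centralizer_closure] at h1
  exact ((Subgroup.mem_centralizer_iff.mp h1) b hb).symm

/-- the representation of the block group on the block -/
noncomputable def blockRep (H : Subgroup (V ≃ₗ[ZMod p] V)) (X K : Submodule (ZMod p) V) :
    blockGroup H X K →* (X ≃ₗ[ZMod p] X) where
  toFun h := (h : V ≃ₗ[ZMod p] V).ofSubmodules X X (blockGroup_fix h.2).2
  map_one' := by ext x; rfl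
  map_mul' a b := by ext x; rfl

theorem blockRep_apply (h : blockGroup H X K) (x : X) :
    ((blockRep H X K h x : X) : V) = (h : V ≃ₗ[ZMod p] V) x := rfl

theorem blockRep_mem {S : Subgroup (X ≃ₗ[ZMod p] X)}
    (hS : ∀ (a : V) (_ : a ∈ X) (φ : Dual (ZMod p) V) (_ : ∀ k ∈ K, φ k = 0) (ht : Tv H a φ)
      (hm : tv a φ ∈ blockGroup H X K), blockRep H X K ⟨tv a φ, hm⟩ ∈ S)
    (h : blockGroup H X K) : blockRep H X K h ∈ S := by
  have key : blockGroup H X K ≤ (S.comap (blockRep H X K)).map (blockGroup H X K).subtype := by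
    refine (Subgroup.closure_le _).mpr ?_
    intro g hg
    have hm : g ∈ blockGroup H X K := Subgroup.subset_closure hg
    obtain ⟨a, ha, φ, hφ, ht, rfl⟩ := hg
    exact ⟨⟨tv a φ, hm⟩, hS a ha φ hφ ht hm, rfl⟩
  obtain ⟨h', hh', he⟩ := key h.2
  rw [← Subtype.ext he]
  exact hh'

/-- a block induces exactly `SL` or exactly `Sp` on its subspace -/
theorem blockRep_range (hb : Blk H X K) :
    ((blockRep H X K).range : Set (X ≃ₗ[ZMod p] X)) =
        {f : X ≃ₗ[ZMod p] X | LinearMap.det (f : X →ₗ[ZMod p] X) = 1} ∨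
      ∃ B : LinearMap.BilinForm (ZMod p) X, B.IsAlt ∧ B.Nondegenerate ∧
        ((blockRep H X K).range : Set (X ≃ₗ[ZMod p] X)) =
          {f : X ≃ₗ[ZMod p] X | ∀ x y, B (f x) (f y) = B x y} := by
  obtain ⟨hc, hr, hkind⟩ := id hb
  have back : ∀ f : X ≃ₗ[ZMod p] X, extend hc f ∈ blockGroup H X K → f ∈ (blockRep H X K).range := by
    intro f hf
    refine ⟨⟨_, hf⟩, LinearEquiv.ext fun x => Subtype.ext ?_⟩
    rw [blockRep_apply]
    simpa using extend_apply hc f x.2 K.zero_mem
  by_cases hS : SLc H X K ∧ 3 ≤ finrank (ZMod p) X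
  · left
    ext f
    simp only [SetLike.mem_coe, MonoidHom.mem_range, Set.mem_setOf_eq]
    constructor
    · rintro ⟨h, rfl⟩
      have hdet : blockRep H X K h ∈ (LinearEquiv.det : (X ≃ₗ[ZMod p] X) →* (ZMod p)ˣ).ker := by
        refine blockRep_mem (fun a ha φ hφ ht hm => ?_) h
        have h0 : (φ.comp X.subtype) (⟨a, ha⟩ : X) = 0 := ht.1
        have : blockRep H X K ⟨tv a φ, hm⟩ = LinearEquiv.transvection h0 := by
          ext x
          rw [blockRep_apply]
          simp [tv_apply ht.1, LinearMap.transvection.apply]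
        rw [MonoidHom.mem_ker, this, LinearEquiv.transvection.det_eq_one]
      rw [← LinearEquiv.coe_det, MonoidHom.mem_ker.mp hdet, Units.val_one]
    · intro hf
      refine back f (mem_of_det_eq_one hc (fun a ha φ hφ h0 => Subgroup.subset_closure ?_) f hf)
      exact ⟨a, ha, φ, hφ, hS.1 a ha φ hφ h0, rfl⟩
  right
  obtain ⟨B, hB⟩ := hkind.resolve_left hS
  refine ⟨(X.subtype.dualMap).comp (B.comp X.subtype), fun x => hB.alt x, ⟨?_, ?_⟩, ?_⟩
  · intro x hx
    exact Subtype.ext (hB.nondeg x x.2 fun y hy => hx ⟨y, hy⟩)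
  · intro x hx
    refine Subtype.ext (hB.nondeg x x.2 fun y hy => ?_)
    rw [hB.skew]
    exact neg_eq_zero.mpr (hx ⟨y, hy⟩)
  ext f
  simp only [SetLike.mem_coe, MonoidHom.mem_range, Set.mem_setOf_eq]
  constructor
  · rintro ⟨h, rfl⟩
    let S : Subgroup (X ≃ₗ[ZMod p] X) :=
      { carrier := {f | ∀ x y : X, B (f x : V) (f y : V) = B (x : V) (y : V)}
        one_mem' := fun _ _ => rfl
        mul_mem' := fun {f g} hf hg x y => by rw [LinearEquiv.mul_apply, LinearEquiv.mul_apply, hf, hg]
        inv_mem' := fun {f} hf x y => by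
          have := hf (f⁻¹ x) (f⁻¹ y)
          simp [LinearEquiv.coe_inv] at this ⊢
          exact this.symm }
    have : blockRep H X K h ∈ S := by
      refine blockRep_mem (fun a ha φ hφ ht hm x y => ?_) h
      rw [blockRep_apply, blockRep_apply]
      obtain ⟨b, hb', rfl⟩ := hB.exists_eq hc hφ
      -- a root outside the form would give `SL`
      have hab : a = 0 ∨ B b = 0 ∨ ∃ c : ZMod p, B b = c • B a := by
        by_contra hh
        push Not at hh
        obtain ⟨ha0, hb0, hcc⟩ := hh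
        have hi : a ∉ Submodule.span (ZMod p) {b} := fun h => by
          obtain ⟨c, hc'⟩ := Submodule.mem_span_singleton.mp h
          have hc0 : c ≠ 0 := fun h => ha0 (by rw [← hc', h, zero_smul])
          exact hcc c⁻¹ (by rw [← hc', map_smul, smul_smul, inv_mul_cancel₀ hc0, one_smul])
        have hb00 : b ≠ 0 := fun h => hb0 (by rw [h, map_zero])
        have hab : B a b = 0 := by rw [hB.skew, ht.1, neg_zero]
        refine hS ⟨hB.slc hc ha hb' hab hi hb00 ht, ?_⟩
        by_contra hlt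
        have h4 := finrank_lt_sup hi
        have h5 : finrank (ZMod p) ↥(Submodule.span (ZMod p) {b}) = 1 := finrank_span_singleton hb00
        have hle2 : Submodule.span (ZMod p) {b} ⊔ Submodule.span (ZMod p) {a} = X :=
          Submodule.eq_of_le_of_finrank_le (sup_le ((Submodule.span_singleton_le_iff_mem _ _).mpr hb')
            ((Submodule.span_singleton_le_iff_mem _ _).mpr ha)) (by omega)
        refine ha0 (hB.nondeg a ha fun z hz => ?_)
        rw [← hle2] at hz
        obtain ⟨q, hq, r, hr', rfl⟩ := Submodule.mem_sup.mp hz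
        obtain ⟨d, rfl⟩ := Submodule.mem_span_singleton.mp hq
        obtain ⟨e, rfl⟩ := Submodule.mem_span_singleton.mp hr'
        simp [hab, hB.alt]
      rcases hab with rfl | h0 | ⟨c, hcb⟩
      · simp [tv_apply ht.1]
      · rw [tv_apply ht.1, tv_apply ht.1]; simp [h0]
      · rw [tv_apply ht.1, tv_apply ht.1]; simp [hcb, hB.alt, hB.skew (x : V) a]
        ring
    intro x y
    exact this x y
  · intro hf
    refine back f (mem_of_isometry hc hB (S := blockGroup H X K) (fun a ha c => Subgroup.subset_closure ?_)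
      (finrank (ZMod p) X) (extend hc f) (fun x hx => ?_) (fun k hk => ?_) (fun a b => ?_) (by omega))
    · refine ⟨a, ha, c • B a, fun k hk => by simp [hB.radR a k hk], (hB.tv a ha).smulRight c, rfl⟩
    · simpa using (show extend hc f (x + 0) ∈ X by
        rw [extend_apply hc f hx K.zero_mem, add_zero]; exact Subtype.prop _)
    · rw [← zero_add k, extend_apply hc f X.zero_mem hk]; simp
    · obtain ⟨x, hx, k, hk, rfl⟩ := exists_split hc a
      obtain ⟨y, hy, l, hl, rfl⟩ := exists_split hc b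
      rw [extend_apply hc f hx hk, extend_apply hc f hy hl]
      have := hf ⟨x, hx⟩ ⟨y, hy⟩
      simp at this
      simp [hB.rad k hk, hB.radR _ l hl, this]

end Cfsg.Agent.Lib.H66.Transvection
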