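import Cfsg.Agent.Lib.H66.Transvection.Block

/-!
Maximal blocks: every transvection lies in exactly one.
-/

set_option autoImplicit false

namespace Cfsg.Agent.Lib.H66.Transvection

open Module

variable {p : ℕ} [Fact p.Prime] {V : Type*} [AddCommGroup V] [Module (ZMod p) V]

variable {H : Subgroup (V ≃ₗ[ZMod p] V)} {X K : Submodule (ZMod p) V}
  {B : V →ₗ[ZMod p] Dual (ZMod p) V}

/-- the plane spanned by two paired centres -/
theorem plane (hB : ∀ v, B v v = 0) {u v : V} (hu : Tv H u (B u)) (hv : Tv H v (B v))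
    (h : B u v ≠ 0) (a b : ZMod p) : Tv H (a • u + b • v) (B (a • u + b • v)) := by
  have hscal : ∀ {w : V}, Tv H w (B w) → ∀ c : ZMod p, Tv H (c • w) (B (c • w)) := fun hw c => by
    rw [map_smul]; exact (hw.smulLeft c).smulRight c
  by_cases ha : a = 0
  · rw [ha, zero_smul, zero_add]; exact hscal hv b
  have h' : B v u ≠ 0 := by
    have h1 := hB (u + v)
    simp [map_add, hB] at h1
    intro h2; rw [h2, zero_add] at h1; exact h h1
  have := hscal (Tv.line hB hu hv h' (b / a)) a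
  rwa [smul_add, smul_smul, mul_div_cancel₀ _ ha] at this

/-- moving inside a symplectic subspace next to a fixed orthogonal vector -/
theorem reach [Finite V] (hB : ∀ v, B v v = 0) {S : Submodule (ZMod p) V} {b : V}
    (hS : ∀ s ∈ S, Tv H s (B s)) (hnd : ∀ s ∈ S, s ≠ 0 → ∃ y ∈ S, B s y ≠ 0)
    (hb : ∀ s ∈ S, B s b = 0) {s s' : V} (hs : s ∈ S) (hs0 : s ≠ 0) (hs' : s' ∈ S) (hs'0 : s' ≠ 0)
    (h : Tv H (s + b) (B (s + b))) : Tv H (s' + b) (B (s' + b)) := by
  have step : ∀ {x y : V}, x ∈ S → y ∈ S → B x y ≠ 0 → Tv H (x + b) (B (x + b)) →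
      Tv H (y + b) (B (y + b)) := by
    intro x y hx hy hne ht
    have hne' : B (y - x) (x + b) ≠ 0 := by
      have h1 := hB (x + y)
      simp [map_add, hB] at h1
      simp [hb x hx, hb y hy, hB]
      intro h2; exact hne (by linear_combination h1 - h2)
    have := Tv.line hB ht (hS _ (S.sub_mem hy hx)) hne' 1
    rwa [one_smul, show x + b + (y - x) = y + b by abel] at this
  obtain ⟨z, hz, h1, h2⟩ := exists_both (f := B s) (g := B s') (hnd s hs hs0) (hnd s' hs' hs'0)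
  refine step hz hs' ?_ (step hs hz h1 h)
  intro h3
  have h4 := hB (z + s')
  simp [map_add, hB, h3] at h4
  exact h2 h4

variable [Finite V]

/-- the special case of the analysis gives the projection to the complement -/
theorem SPc.split (hp : Odd p) (hB : SPc H X K B) (hc : IsCompl X K) {x k : V} (hx : x ∈ X)
    (hx0 : x ≠ 0) (hk : k ∈ K) (hk0 : k ≠ 0) {c : ZMod p} (hc0 : c ≠ 0) {γ : Dual (ZMod p) V}
    (hγ : ∀ z ∈ X, γ z = 0) (hγk : γ k = 0) (ht : Tv H (x + k) (c • B x + γ)) : Tv H k γ := by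
  obtain ⟨g, hgX, hgk⟩ := exists_sep X (x := k)
    (fun h => hk0 (Submodule.disjoint_def.mp hc.disjoint k h hk))
  let B' : V →ₗ[ZMod p] Dual (ZMod p) V :=
    B + (c * g k)⁻¹ • (g.smulRight γ - γ.smulRight g)
  have hcg : c * g k ≠ 0 := mul_ne_zero hc0 hgk
  have hB' : ∀ v, B' v v = 0 := fun v => by simp [B', hB.alt]; ring_nf; simp
  have hX : ∀ z ∈ X, B' z = B z := fun z hz => by
    ext w; simp [B', hgX z hz, hγ z hz]
  have hk' : c • B' k = γ := by
    ext w
    simp [B', hγk, hB.rad k hk]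
    field_simp
  have h0 : Tv H (x + k) (B' (x + k)) := by
    refine Tv.of_smulRight hc0 ?_
    rw [map_add, smul_add, hk', hX x hx]
    exact ht
  have h1 := reach (B := B') hB' (S := X) (b := k) (fun s hs => by rw [hX s hs]; exact hB.tv s hs)
    (fun s hs h => by rw [hX s hs]; exact hB.exists_pair hs h)
    (fun s hs => by rw [hX s hs]; exact hB.radR s k hk) hx hx0 (X.neg_mem hx) (neg_ne_zero.mpr hx0) h0
  have h2 := h1.smulRight c
  rw [map_add, smul_add, hk', hX _ (X.neg_mem hx), map_neg, smul_neg] at h2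
  have hxx : B x x = 0 := hB.alt x
  have hxk : B x k = 0 := hB.radR x k hk
  have hγx : γ x = 0 := hγ x hx
  have h3 : Tv H x ((2 * c) • B x) := (hB.tv x hx).smulRight _
  have h4 : Tv H k ((2 : ZMod p) • γ) := by
    refine ⟨by simp [hγk], ?_⟩
    have e : Transvection.tv x ((2 * c) • B x) * Transvection.tv k ((2 : ZMod p) • γ) =
        Transvection.tv (x + k) (c • B x + γ) * Transvection.tv (-x + k) (-(c • B x) + γ) := by
      ext w
      rw [LinearEquiv.mul_apply, LinearEquiv.mul_apply, tv_apply h3.1,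
        tv_apply (show ((2 : ZMod p) • γ) k = 0 by simp [hγk]), tv_apply ht.1, tv_apply h2.1]
      simp [hxx, hxk, hγx, hγk]
      module
    rw [eq_inv_mul_of_mul_eq e]
    exact H.mul_mem (H.inv_mem h3.2) (H.mul_mem ht.2 h2.2)
  refine h4.of_smulRight ?_
  intro h2'
  have : ((2 : ℕ) : ZMod p) = 0 := by simpa using h2'
  rw [ZMod.natCast_eq_zero_iff] at this
  have := Nat.le_of_dvd two_pos this
  have := (Fact.out : p.Prime).two_le
  obtain ⟨q, rfl⟩ := hp
  omega

/-- in a maximal block every transvection is inside or outside -/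
theorem Blk.good (hp : Odd p) (hb : Blk H X K) (hP : Paired H) (hmax : ¬ Ext H X K) {v : V}
    {β : Dual (ZMod p) V} (hv : v ≠ 0) (hβ : β ≠ 0) (ht : Tv H v β) :
    (v ∈ X ∧ ∀ z ∈ K, β z = 0) ∨ (v ∈ K ∧ ∀ z ∈ X, β z = 0) := by
  obtain ⟨hc, hr, -⟩ := id hb
  obtain ⟨x, hx, k, hk, rfl⟩ := exists_split hc v
  obtain ⟨βX, γ, rfl, hβX, hγ⟩ := exists_dual_split hc β
  rcases hb.analysis hP hmax hx hk hβX hγ hv hβ ht with ⟨rfl, rfl⟩ | ⟨rfl, rfl⟩ |
    ⟨B, c, hB, hx0, hk0, hc0, rfl, hγ0, hγk⟩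
  · exact Or.inl ⟨by simpa using hx, fun z hz => by simp [hβX z hz]⟩
  · exact Or.inr ⟨by simpa using hk, fun z hz => by simp [hγ z hz]⟩
  exfalso
  apply hmax
  have hproj := hB.split hp hc hx hx0 hk hk0 hc0 hγ hγk ht
  obtain ⟨v', β', ht', hγv', hβ'k⟩ := hP k γ hk0 hγ0 hproj
  obtain ⟨x', hx', k', hk', rfl⟩ := exists_split hc v'
  obtain ⟨a', γ', rfl, ha', hγ'⟩ := exists_dual_split hc β'
  have hγk' : γ k' ≠ 0 := by simpa [hγ x' hx'] using hγv'
  have hγ'k : γ' k ≠ 0 := by simpa [ha' k hk] using hβ'k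
  -- the partner can be taken inside `K`
  have hK2 : Tv H k' γ' := by
    rcases hb.analysis hP hmax hx' hk' ha' hγ' (fun h => hγv' (by simp [h]))
        (fun h => hβ'k (by simp [h])) ht' with ⟨rfl, -⟩ | ⟨rfl, rfl⟩ |
      ⟨B₁, c₁, hB₁, hx₁, hk₁, hc₁, rfl, -, hγ'k'⟩
    · exact absurd (map_zero γ) hγk'
    · simpa using ht'
    · exact hB₁.split hp hc hx' hx₁ hk' hk₁ hc₁ hγ' hγ'k' ht'
  have hγ'k' : γ' k' = 0 := hK2.1
  set e := -(c * γ' k)⁻¹
  have he : e ≠ 0 := neg_ne_zero.mpr (inv_ne_zero (mul_ne_zero hc0 hγ'k))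
  let B' : V →ₗ[ZMod p] Dual (ZMod p) V := B + e • (γ.smulRight γ' - γ'.smulRight γ)
  have hB' : ∀ v, B' v v = 0 := fun v => by simp [B', hB.alt]; ring_nf; simp
  have hX : ∀ z ∈ X, B' z = B z := fun z hz => by
    ext w; simp [B', hγ' z hz, hγ z hz]
  have hBk : B' k = c⁻¹ • γ := by
    ext w
    simp [B', hγk, hB.rad k hk, e]
    field_simp
  have hBk' : B' k' = (e * γ k') • γ' := by
    ext w
    simp [B', hγ'k', hB.rad k' hk']
    ring
  have hkC : Tv H k (B' k) := by rw [hBk]; exact hproj.smulRight _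
  have hk'C : Tv H k' (B' k') := by rw [hBk']; exact hK2.smulRight _
  have hkk' : B' k k' ≠ 0 := by
    rw [hBk]; simp [hc0, hγk']
  have hk'k : B' k' k ≠ 0 := by
    rw [hBk']; simp [he, hγk', hγ'k]
  let Q : Submodule (ZMod p) V := Submodule.span (ZMod p) {k, k'}
  have hQ : ∀ q ∈ Q, Tv H q (B' q) := fun q hq => by
    obtain ⟨a, b, rfl⟩ := Submodule.mem_span_pair.mp hq
    exact plane hB' hkC hk'C hkk' a b
  have hQK : Q ≤ K := Submodule.span_le.mpr (by simp [Set.insert_subset_iff, hk, hk'])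
  have hQnd : ∀ q ∈ Q, q ≠ 0 → ∃ y ∈ Q, B' q y ≠ 0 := by
    intro q hq hq0
    obtain ⟨a, b, rfl⟩ := Submodule.mem_span_pair.mp hq
    by_cases hb0 : b = 0
    · refine ⟨k', Submodule.subset_span (by simp), ?_⟩
      have : a ≠ 0 := fun h => hq0 (by simp [h, hb0])
      simp [hb0, this, hkk']
    · refine ⟨k, Submodule.subset_span (by simp), ?_⟩
      simp [hB', hb0, hk'k]
  have hXQ : ∀ z ∈ X, ∀ q ∈ Q, B' z q = 0 := fun z hz q hq => by
    rw [hX z hz]; exact hB.radR z q (hQK hq)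
  have hQX : ∀ q ∈ Q, ∀ z ∈ X, B' q z = 0 := fun q hq z hz => by
    have h1 := hB' (q + z)
    simp [map_add, hB', hXQ z hz q hq] at h1
    exact h1
  have hbase : Tv H (x + k) (B' (x + k)) := by
    refine Tv.of_smulRight hc0 ?_
    rw [map_add, smul_add, hBk, hX x hx, smul_smul, mul_inv_cancel₀ hc0, one_smul]
    exact ht
  have hk_mem : k ∈ Q := Submodule.subset_span (by simp)
  have hall : ∀ w ∈ X ⊔ Q, Tv H w (B' w) := by
    intro w hw
    obtain ⟨z, hz, q, hq, rfl⟩ := Submodule.mem_sup.mp hw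
    by_cases hz0 : z = 0
    · subst hz0; rw [zero_add]; exact hQ q hq
    by_cases hq0 : q = 0
    · subst hq0; rw [add_zero, hX z hz]; exact hB.tv z hz
    have h1 : Tv H (z + k) (B' (z + k)) := reach hB' (S := X)
      (fun s hs => by rw [hX s hs]; exact hB.tv s hs)
      (fun s hs h => by rw [hX s hs]; exact hB.exists_pair hs h)
      (fun s hs => hXQ s hs k hk_mem) hx hx0 hz hz0 hbase
    rw [add_comm] at h1
    rw [add_comm]
    exact reach hB' (S := Q) hQ hQnd (fun s hs => hQX s hs z hz) hk_mem hk0 hq hq0 h1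
  have hcompl : IsCompl (X ⊔ Q) (K ⊓ LinearMap.ker γ ⊓ LinearMap.ker γ') := by
    constructor
    · rw [Submodule.disjoint_def]
      intro y hy hy'
      obtain ⟨z, hz, q, hq, rfl⟩ := Submodule.mem_sup.mp hy
      obtain ⟨⟨hyK, h1⟩, h2⟩ := hy'
      have hz0 : z = 0 := Submodule.disjoint_def.mp hc.disjoint z hz
        (by simpa using K.sub_mem hyK (hQK hq))
      subst hz0
      obtain ⟨a, b, rfl⟩ := Submodule.mem_span_pair.mp hq
      simp [hγk, hγk'] at h1
      simp [h1, hγ'k] at h2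
      simp [h1, h2]
    · rw [codisjoint_iff, eq_top_iff]
      intro w _
      obtain ⟨z, hz, r, hr', rfl⟩ := exists_split hc w
      set q := (γ' r / γ' k) • k + (γ r / γ k') • k'
      have hq : q ∈ Q := Submodule.add_mem _ (Submodule.smul_mem _ _ hk_mem)
        (Submodule.smul_mem _ _ (Submodule.subset_span (by simp)))
      refine Submodule.mem_sup.mpr ⟨z + q, Submodule.add_mem_sup hz hq, r - q,
        ⟨⟨K.sub_mem hr' (hQK hq), ?_⟩, ?_⟩, by abel⟩
      · simp [q, hγk, div_mul_cancel₀ _ hγk']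
      · simp [q, hγ'k', div_mul_cancel₀ _ hγ'k]
  have hsp : SPc H (X ⊔ Q) (K ⊓ LinearMap.ker γ ⊓ LinearMap.ker γ') B' := by
    refine ⟨hB', ?_, ?_, hall⟩
    · rintro z ⟨⟨hzK, h1⟩, h2⟩
      ext w
      simp [LinearMap.mem_ker] at h1 h2
      simp [B', hB.rad z hzK, h1, h2]
    · intro y hy h
      obtain ⟨z, hz, q, hq, rfl⟩ := Submodule.mem_sup.mp hy
      have hz0 : z = 0 := by
        refine hB.nondeg z hz fun w hw => ?_
        have := h w (Submodule.mem_sup_left hw)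
        simpa [hQX q hq w hw, hX z hz] using this
      subst hz0
      rw [zero_add]
      by_contra hq0
      obtain ⟨r, hr', hne⟩ := hQnd q hq hq0
      exact hne (by simpa using h r (Submodule.mem_sup_right hr'))
  have hlt : finrank (ZMod p) X < finrank (ZMod p) ↥(X ⊔ Q) := by
    refine lt_of_lt_of_le (finrank_lt_sup (k := k) fun h => hk0 (Submodule.disjoint_def.mp hc.disjoint k h hk)) ?_
    exact Submodule.finrank_mono (sup_le_sup_left (Submodule.span_mono (by simp)) X)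
  exact ⟨X ⊔ Q, _, ⟨hcompl, by omega, Or.inr ⟨B', hsp⟩⟩, le_sup_left, mu_lt_of_finrank_lt hlt⟩

/-- a maximal block -/
def MaxBlk (H : Subgroup (V ≃ₗ[ZMod p] V)) (X K : Submodule (ZMod p) V) : Prop :=
  Blk H X K ∧ ¬ Ext H X K

/-- every transvection lies in a maximal block -/
theorem exists_maxBlk (hp : Odd p) (hP : Paired H) {u : V} {φ : Dual (ZMod p) V} (hu : u ≠ 0)
    (hφ : φ ≠ 0) (ht : Tv H u φ) : ∃ X K, MaxBlk H X K ∧ u ∈ X ∧ ∀ z ∈ K, φ z = 0 := by
  obtain ⟨v, ψ, hv, hφv, hψu⟩ := hP u φ hu hφ ht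
  let B₀ : V →ₗ[ZMod p] Dual (ZMod p) V := φ.smulRight ψ - ψ.smulRight φ
  have hB₀ : ∀ w, B₀ w w = 0 := fun w => by simp [B₀]; ring
  have huC : Tv H u (B₀ u) := by
    have : B₀ u = (-(ψ u)) • φ := by ext w; simp [B₀, ht.1]
    rw [this]; exact ht.smulRight _
  have hvC : Tv H v (B₀ v) := by
    have : B₀ v = (φ v) • ψ := by ext w; simp [B₀, hv.1]
    rw [this]; exact hv.smulRight _
  have huv : B₀ u v ≠ 0 := by simp [B₀, ht.1, hφv, hψu]
  let X₀ : Submodule (ZMod p) V := Submodule.span (ZMod p) {u, v}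
  let K₀ : Submodule (ZMod p) V := LinearMap.ker φ ⊓ LinearMap.ker ψ
  have hblk : Blk H X₀ K₀ := by
    refine ⟨⟨?_, ?_⟩, ?_, Or.inr ⟨B₀, hB₀, ?_, ?_, fun a ha => ?_⟩⟩
    · rw [Submodule.disjoint_def]
      intro y hy hy'
      obtain ⟨a, b, rfl⟩ := Submodule.mem_span_pair.mp hy
      obtain ⟨h1, h2⟩ := hy'
      simp [ht.1, hφv] at h1
      simp [h1, hψu] at h2
      simp [h1, h2]
    · rw [codisjoint_iff, eq_top_iff]
      intro w _
      set q := (ψ w / ψ u) • u + (φ w / φ v) • v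
      have hq : q ∈ X₀ := Submodule.mem_span_pair.mpr ⟨_, _, rfl⟩
      refine Submodule.mem_sup.mpr ⟨q, hq, w - q, ⟨?_, ?_⟩, by abel⟩
      · simp [q, ht.1, div_mul_cancel₀ _ hφv]
      · simp [q, hv.1, div_mul_cancel₀ _ hψu]
    · have hvu : v ∉ Submodule.span (ZMod p) {u} := fun h => by
        obtain ⟨d, rfl⟩ := Submodule.mem_span_singleton.mp h
        simp [ht.1] at hφv
      have h1 := finrank_lt_sup hvu
      rw [finrank_span_singleton hu, ← Submodule.span_union, Set.singleton_union] at h1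
      exact h1
    · rintro z ⟨h1, h2⟩
      ext w
      simp [LinearMap.mem_ker] at h1 h2
      simp [B₀, h1, h2]
    · intro y hy h
      obtain ⟨a, b, rfl⟩ := Submodule.mem_span_pair.mp hy
      have h1 := h u (Submodule.subset_span (by simp))
      have h2 := h v (Submodule.subset_span (by simp))
      simp [B₀, ht.1, hv.1, hφv, hψu] at h1 h2
      simp [h1, h2]
    · obtain ⟨x, y, rfl⟩ := Submodule.mem_span_pair.mp ha
      exact plane hB₀ huC hvC huv x y
  have hfin : Finite (Submodule (ZMod p) V × Submodule (ZMod p) V) := by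
    haveI : Finite (Submodule (ZMod p) V) :=
      Finite.of_injective (fun W : Submodule (ZMod p) V => (W : Set V)) SetLike.coe_injective
    infer_instance
  obtain ⟨⟨X, K⟩, ⟨hb, hle⟩, hmax⟩ := Set.exists_max_image
    {q : Submodule (ZMod p) V × Submodule (ZMod p) V | Blk H q.1 q.2 ∧ X₀ ≤ q.1}
    (fun q => mu H q.1 q.2) (Set.toFinite _) ⟨(X₀, K₀), hblk, le_rfl⟩
  have hmaxE : ¬ Ext H X K := by
    rintro ⟨Y, K', hY, hXY, hlt⟩
    exact absurd (hmax (Y, K') ⟨hY, hle.trans hXY⟩) (not_le.mpr hlt)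
  have huX : u ∈ X := hle (Submodule.subset_span (by simp))
  refine ⟨X, K, ⟨hb, hmaxE⟩, huX, ?_⟩
  rcases hb.good hp hP hmaxE hu hφ ht with h | h
  · exact h.2
  · exact absurd (Submodule.disjoint_def.mp hb.1.disjoint u huX h.1) hu

omit [Finite V] in
theorem exists_root [Finite V] (hb : Blk H X K) {a : V} (ha : a ∈ X) (ha0 : a ≠ 0) :
    ∃ φ : Dual (ZMod p) V, φ ≠ 0 ∧ (∀ z ∈ K, φ z = 0) ∧ Tv H a φ := by
  obtain ⟨hc, hr, ⟨hsl, h3⟩ | ⟨B, hB⟩⟩ := hb
  · have hW : ¬ X ≤ Submodule.span (ZMod p) {a} := fun h => by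
      have := Submodule.finrank_mono h
      rw [finrank_span_singleton ha0] at this; omega
    obtain ⟨z, hz, hzn⟩ := SetLike.not_le_iff_exists.mp hW
    obtain ⟨f, hf, hfz⟩ := exists_sep (Submodule.span (ZMod p) {a} ⊔ K) (x := z) (fun h => by
      obtain ⟨w, hw, q, hq, rfl⟩ := Submodule.mem_sup.mp h
      have hwX : w ∈ X := (Submodule.span_singleton_le_iff_mem _ _).mpr ha hw
      have : q = 0 := Submodule.disjoint_def.mp hc.disjoint q (by simpa using X.sub_mem hz hwX) hq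
      exact hzn (by simpa [this] using hw))
    exact ⟨f, fun h => hfz (by simp [h]), fun q hq => hf q (Submodule.mem_sup_right hq),
      hsl a ha f (fun q hq => hf q (Submodule.mem_sup_right hq))
        (hf a (Submodule.mem_sup_left (Submodule.mem_span_singleton_self a)))⟩
  · exact ⟨B a, hB.apply_ne ha ha0, hB.radR a, hB.tv a ha⟩

/-- two maximal blocks sharing a vector coincide -/
theorem maxBlk_unique (hp : Odd p) (hP : Paired H) {X' K' : Submodule (ZMod p) V}
    (h : MaxBlk H X K) (h' : MaxBlk H X' K') {v : V} (hv : v ∈ X) (hv' : v ∈ X') (hv0 : v ≠ 0) :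
    X = X' ∧ K = K' := by
  suffices key : ∀ {X K X' K' : Submodule (ZMod p) V}, MaxBlk H X K → MaxBlk H X' K' → v ∈ X →
      v ∈ X' → X' ≤ X ∧ K ≤ K' by
    obtain ⟨a, b⟩ := key h h' hv hv'
    obtain ⟨c, d⟩ := key h' h hv' hv
    exact ⟨le_antisymm c a, le_antisymm b d⟩
  intro X K X' K' h h' hv hv'
  have inX : ∀ {a : V} {φ : Dual (ZMod p) V}, a ≠ 0 → Tv H a φ → φ v ≠ 0 → a ∈ X ∧ ∀ z ∈ K, φ z = 0 := by
    intro a φ ha ht hne
    rcases h.1.good hp hP h.2 ha (fun h0 => hne (by simp [h0])) ht with h1 | h1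
    · exact h1
    · exact absurd (h1.2 v hv) hne
  obtain ⟨hc', hr', hkind⟩ := h'.1
  rcases hkind with ⟨hsl, h3⟩ | ⟨B, hB⟩
  · have sep : ∀ {a : V}, a ∈ X' → v ∉ Submodule.span (ZMod p) {a} → ∃ φ : Dual (ZMod p) V,
        (∀ z ∈ K', φ z = 0) ∧ φ a = 0 ∧ φ v ≠ 0 := fun {a} ha hn => by
      obtain ⟨f, hf, hfv⟩ := exists_sep (Submodule.span (ZMod p) {a} ⊔ K') (x := v) (fun h => by
        obtain ⟨w, hw, q, hq, hwq⟩ := Submodule.mem_sup.mp h
        have hwX : w ∈ X' := (Submodule.span_singleton_le_iff_mem _ _).mpr ha hw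
        have : q = 0 := Submodule.disjoint_def.mp hc'.disjoint q
          (by rw [show q = v - w by rw [← hwq]; abel]; exact X'.sub_mem hv' hwX) hq
        rw [this, add_zero] at hwq
        exact hn (hwq ▸ hw))
      exact ⟨f, fun z hz => hf z (Submodule.mem_sup_right hz),
        hf a (Submodule.mem_sup_left (Submodule.mem_span_singleton_self a)), hfv⟩
    have hXX : X' ≤ X := by
      intro a ha
      by_cases ha0 : a = 0
      · rw [ha0]; exact X.zero_mem
      by_cases hn : v ∈ Submodule.span (ZMod p) {a}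
      · obtain ⟨d, hd⟩ := Submodule.mem_span_singleton.mp hn
        have hd0 : d ≠ 0 := fun h0 => hv0 (by rw [← hd, h0, zero_smul])
        rw [← inv_smul_smul₀ hd0 a, hd]
        exact X.smul_mem _ hv
      obtain ⟨φ, h1, h2, h3'⟩ := sep ha hn
      exact (inX ha0 (hsl a ha φ h1 h2) h3').1
    refine ⟨hXX, fun z hz => ?_⟩
    obtain ⟨x, hx, w, hw, rfl⟩ := exists_split hc' z
    suffices x = 0 by simpa [this] using hw
    by_contra hx0
    obtain ⟨f, hfK, hfx, hfv⟩ : ∃ f : Dual (ZMod p) V, (∀ q ∈ K', f q = 0) ∧ f x ≠ 0 ∧ f v ≠ 0 := by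
      have mk : ∀ {y : V}, y ∈ X' → y ≠ 0 → ∃ f : Dual (ZMod p) V, (∀ q ∈ K', f q = 0) ∧ f y ≠ 0 :=
        fun {y} hy hy0 => exists_sep K' (fun hh => hy0 (Submodule.disjoint_def.mp hc'.disjoint y hy hh))
      obtain ⟨f, hf, hfx⟩ := mk hx hx0
      obtain ⟨g, hg, hgv⟩ := mk hv' hv0
      by_cases h1 : f v = 0
      · by_cases h2 : g x = 0
        · exact ⟨f + g, fun q hq => by simp [hf q hq, hg q hq], by simp [h2, hfx], by simp [h1, hgv]⟩
        · exact ⟨g, hg, h2, hgv⟩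
      · exact ⟨f, hf, hfx, h1⟩
    obtain ⟨a, ha, hfa, hanv⟩ : ∃ a ∈ X', f a = 0 ∧ a ≠ 0 := by
      by_contra hn
      push Not at hn
      have hle : X' ≤ Submodule.span (ZMod p) {v} := fun y hy => by
        have := hn (y - (f y / f v) • v) (X'.sub_mem hy (X'.smul_mem _ hv'))
          (by simp [div_mul_cancel₀ _ hfv])
        exact Submodule.mem_span_singleton.mpr ⟨_, (sub_eq_zero.mp this).symm⟩
      have := Submodule.finrank_mono hle
      rw [finrank_span_singleton hv0] at this; omega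
    have := (inX hanv (hsl a ha f hfK hfa) hfv).2 (x + w) hz
    simp [hfK w hw, hfx] at this
  · have key : ∀ a ∈ X', B a v ≠ 0 → a ∈ X ∧ ∀ z ∈ K, B a z = 0 := fun a ha hne =>
      inX (fun h0 => hne (by simp [h0])) (hB.tv a ha) hne
    obtain ⟨b, hb, hne⟩ := hB.exists_pair hv' hv0
    have hne' : B b v ≠ 0 := by rw [hB.skew]; simpa using hne
    have all : ∀ a ∈ X', a ∈ X ∧ ∀ z ∈ K, B a z = 0 := by
      intro a ha
      by_cases h1 : B a v = 0
      · obtain ⟨h2, h3⟩ := key (a + b) (X'.add_mem ha hb) (by simp [h1, hne'])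
        obtain ⟨h4, h5⟩ := key b hb hne'
        exact ⟨by simpa using X.sub_mem h2 h4, fun z hz => by simpa [h5 z hz] using h3 z hz⟩
      · exact key a ha h1
    refine ⟨fun a ha => (all a ha).1, fun z hz => ?_⟩
    obtain ⟨x, hx, w, hw, rfl⟩ := exists_split hc' z
    suffices x = 0 by simpa [this] using hw
    refine hB.nondeg x hx fun a ha => ?_
    have := (all a ha).2 (x + w) hz
    rw [map_add, hB.radR a w hw, add_zero] at this
    rw [hB.skew, this, neg_zero]

/-- distinct maximal blocks lie in each other's complement -/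
theorem maxBlk_le (hp : Odd p) (hP : Paired H) {X' K' : Submodule (ZMod p) V}
    (h : MaxBlk H X K) (h' : MaxBlk H X' K') (hne : (X, K) ≠ (X', K')) : X' ≤ K := by
  intro a ha
  by_cases ha0 : a = 0
  · simp [ha0]
  obtain ⟨φ, hφ0, -, ht⟩ := exists_root h'.1 ha ha0
  rcases h.1.good hp hP h.2 ha0 hφ0 ht with h1 | h1
  · obtain ⟨e1, e2⟩ := maxBlk_unique hp hP h h' h1.1 ha ha0
    exact absurd (Prod.ext e1 e2) hne
  · exact h1.1

end Cfsg.Agent.Lib.H66.Transvection
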