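import Cfsg.Agent.Lib.H66.Transvection.Basic
import Cfsg.Agent.Lib.H66.Transvection.Block
import Cfsg.Agent.S0199
import Cfsg.Prelude.Def_Solvable

/-!
A transvection group without normal `p`-subgroup is paired (Baer–Suzuki).
-/

set_option autoImplicit false

namespace Cfsg.Agent.Lib.H66.Transvection

open Module

variable {p : ℕ} [Fact p.Prime] {V : Type*} [AddCommGroup V] [Module (ZMod p) V] [Finite V]

theorem tv_conj (h : V ≃ₗ[ZMod p] V) {u : V} {φ : Dual (ZMod p) V} (h0 : φ u = 0) :
    h * tv u φ * h⁻¹ = tv (h u) (φ.comp (h.symm : V →ₗ[ZMod p] V)) := by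
  have h1 : (φ.comp (h.symm : V →ₗ[ZMod p] V)) (h u) = 0 := by simp [h0]
  ext x
  rw [LinearEquiv.mul_apply, LinearEquiv.mul_apply, tv_apply h0, tv_apply h1]
  simp [LinearEquiv.coe_inv]

theorem pow_p_eq_one (hp : Odd p) {A L : Submodule (ZMod p) V} {g : V ≃ₗ[ZMod p] V}
    (h1 : ∀ x, g x - x ∈ A) (h2 : ∀ a ∈ A, g a - a ∈ L) (h3 : ∀ l ∈ L, g l = l) : g ^ p = 1 := by
  have key : ∀ (n : ℕ) (x : V), (g ^ n) x =
      x + (n : ZMod p) • (g x - x) + (n.choose 2 : ZMod p) • (g (g x - x) - (g x - x)) := by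
    intro n
    induction n with
    | zero => intro x; simp
    | succ n ih =>
      intro x
      rw [pow_succ', LinearEquiv.mul_apply, ih x]
      have e := h3 _ (h2 _ (h1 x))
      simp only [map_add, map_smul, e]
      rw [Nat.choose_succ_succ, Nat.choose_one_right]
      push_cast
      simp only [map_sub]
      module
  ext x
  rw [key p x]
  have hd : p ∣ p.choose 2 := (Fact.out : p.Prime).dvd_choose_self (by norm_num) (by
    obtain ⟨k, hk⟩ := hp
    have := (Fact.out : p.Prime).two_le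
    omega)
  simp [(ZMod.natCast_eq_zero_iff _ _).mpr hd]

/-- two transvections with `φ v = 0` generate a `p`-group -/
theorem isPGroup_pair (hp : Odd p) {u v : V} {φ ψ : Dual (ZMod p) V} (hu : φ u = 0) (hv : ψ v = 0)
    (h : φ v = 0) : IsPGroup p (Subgroup.closure {tv u φ, tv v ψ}) := by
  let A : Submodule (ZMod p) V := Submodule.span (ZMod p) {u, v}
  let L : Submodule (ZMod p) V := Submodule.span (ZMod p) {v}
  have hLA : L ≤ A := Submodule.span_mono (by simp)
  let U : Subgroup (V ≃ₗ[ZMod p] V) :=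
    { carrier := {g | (∀ x, g x - x ∈ A) ∧ (∀ a ∈ A, g a - a ∈ L) ∧ ∀ l ∈ L, g l = l}
      one_mem' := ⟨fun x => by simp, fun a _ => by simp, fun l _ => rfl⟩
      mul_mem' := by
        rintro g g' ⟨a1, a2, a3⟩ ⟨b1, b2, b3⟩
        refine ⟨fun x => ?_, fun a ha => ?_, fun l hl => ?_⟩
        · have := A.add_mem (a1 (g' x)) (b1 x); simpa [LinearEquiv.mul_apply] using this
        · have hga : g' a ∈ A := by simpa using A.add_mem (hLA (b2 a ha)) ha
          have := L.add_mem (a2 _ hga) (b2 a ha); simpa [LinearEquiv.mul_apply] using this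
        · rw [LinearEquiv.mul_apply, b3 l hl, a3 l hl]
      inv_mem' := by
        rintro g ⟨a1, a2, a3⟩
        refine ⟨fun x => ?_, fun a ha => ?_, fun l hl => ?_⟩
        · have := A.neg_mem (a1 (g⁻¹ x)); simpa [LinearEquiv.coe_inv] using this
        · have hga : g⁻¹ a ∈ A := by
            have := A.sub_mem ha (a1 (g⁻¹ a)); simpa [LinearEquiv.coe_inv] using this
          have := L.neg_mem (a2 _ hga); simpa [LinearEquiv.coe_inv] using this
        · rw [LinearEquiv.coe_inv, LinearEquiv.symm_apply_eq, a3 l hl] }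
  have hvA : v ∈ A := Submodule.subset_span (by simp)
  have huA : u ∈ A := Submodule.subset_span (by simp)
  have hle : Subgroup.closure {tv u φ, tv v ψ} ≤ U := by
    rw [Subgroup.closure_le]
    rintro g (rfl | rfl)
    · refine ⟨fun x => by simpa [tv_apply hu] using A.smul_mem _ huA, fun a ha => ?_, fun l hl => ?_⟩
      · obtain ⟨r, s, rfl⟩ := Submodule.mem_span_pair.mp ha
        simp [tv_apply hu, hu, h]
      · obtain ⟨r, rfl⟩ := Submodule.mem_span_singleton.mp hl
        simp [tv_apply hu, h]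
    · refine ⟨fun x => by simpa [tv_apply hv] using A.smul_mem _ hvA, fun a _ => ?_, fun l hl => ?_⟩
      · simpa [tv_apply hv] using L.smul_mem _ (Submodule.mem_span_singleton_self v)
      · obtain ⟨r, rfl⟩ := Submodule.mem_span_singleton.mp hl
        simp [tv_apply hv, hv]
  intro g
  obtain ⟨c1, c2, c3⟩ := hle g.2
  exact ⟨1, Subtype.ext (by rw [pow_one, SubmonoidClass.coe_pow]; exact pow_p_eq_one hp c1 c2 c3)⟩

theorem paired_of_pCore_eq_bot (hp : Odd p) (H : Subgroup (V ≃ₗ[ZMod p] V))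
    (hOp : Cfsg.pCore p H = ⊥) : Paired H := by
  intro u φ hu hφ ht
  by_contra hn
  push Not at hn
  haveI : Finite (V ≃ₗ[ZMod p] V) :=
    Finite.of_injective (fun f : V ≃ₗ[ZMod p] V => (f : V → V)) DFunLike.coe_injective
  set t : H := ⟨tv u φ, ht.2⟩
  have hXp : IsPGroup p (Subgroup.zpowers t) := by
    have ht1 : t ^ p = 1 := by
      refine Subtype.ext ?_
      rw [SubmonoidClass.coe_pow]
      exact pow_p_eq_one hp (A := Submodule.span (ZMod p) {u}) (L := ⊥)
        (fun x => by simpa [t, tv_apply ht.1] using Submodule.smul_mem _ _ (Submodule.mem_span_singleton_self u))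
        (fun a ha => by
          obtain ⟨r, rfl⟩ := Submodule.mem_span_singleton.mp ha
          simp [t, tv_apply ht.1, ht.1])
        (fun l hl => by simp [(Submodule.mem_bot _).mp hl])
    rintro ⟨y, hy⟩
    obtain ⟨i, rfl⟩ := Subgroup.mem_zpowers_iff.mp hy
    refine ⟨1, Subtype.ext ?_⟩
    simp only [pow_one, SubmonoidClass.coe_pow, OneMemClass.coe_one]
    rw [← zpow_natCast, ← zpow_mul, mul_comm, zpow_mul, zpow_natCast, ht1, one_zpow]
  have hpair : ∀ g : H, IsPGroup p ↥(Subgroup.zpowers t ⊔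
      (Subgroup.zpowers t).map (MulAut.conj g).toMonoidHom) := by
    intro g
    set v := (g : V ≃ₗ[ZMod p] V) u
    set ψ := φ.comp ((g : V ≃ₗ[ZMod p] V).symm : V →ₗ[ZMod p] V)
    have hv : ψ v = 0 := by simp [ψ, v, ht.1]
    have hcoe : ((g * t * g⁻¹ : H) : V ≃ₗ[ZMod p] V) = tv v ψ := by simp [t, v, ψ, tv_conj _ ht.1]
    have hTv : Tv H v ψ := ⟨hv, by rw [← hcoe]; exact Subtype.prop _⟩
    have hpg : IsPGroup p (Subgroup.closure {tv u φ, tv v ψ}) := by
      by_cases h : φ v = 0
      · exact isPGroup_pair hp ht.1 hv h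
      · rw [Set.pair_comm]; exact isPGroup_pair hp hv ht.1 (hn v ψ hTv h)
    have hle : (Subgroup.zpowers t ⊔ (Subgroup.zpowers t).map (MulAut.conj g).toMonoidHom).map H.subtype ≤
        Subgroup.closure {tv u φ, tv v ψ} := by
      rw [Subgroup.map_sup, MonoidHom.map_zpowers, MonoidHom.map_zpowers, MonoidHom.map_zpowers]
      refine sup_le (Subgroup.zpowers_le.mpr (Subgroup.subset_closure ?_))
        (Subgroup.zpowers_le.mpr (Subgroup.subset_closure ?_))
      · simp [t]
      · right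
        simpa using hcoe
    exact (hpg.to_le hle).of_equiv
      (Subgroup.equivMapOfInjective _ H.subtype H.subtype_injective).symm
  obtain ⟨N, hN, hNp, hle⟩ := Cfsg.Agent.S0199.result _ hXp hpair
  have hle' : N ≤ Cfsg.pCore p H := le_sSup ⟨hN, hNp⟩
  rw [hOp, le_bot_iff] at hle'
  subst hle'
  have h1 : t = 1 := Subgroup.mem_bot.mp (hle (Subgroup.mem_zpowers t))
  obtain ⟨y, hy⟩ : ∃ y, φ y ≠ 0 := by
    by_contra hh; push Not at hh; exact hφ (LinearMap.ext hh)
  have := congrArg (fun f : H => (f : V ≃ₗ[ZMod p] V) y) h1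
  simp [t, tv_apply ht.1, hu, hy] at this

/-- recognising transvections -/
theorem exists_tv_of_finrank {t : V ≃ₗ[ZMod p] V} (ho : orderOf t = p)
    (hk : finrank (ZMod p) ↥(LinearMap.ker ((t : V →ₗ[ZMod p] V) - LinearMap.id)) + 1 =
      finrank (ZMod p) V) :
    ∃ (u : V) (φ : Dual (ZMod p) V), u ≠ 0 ∧ φ ≠ 0 ∧ φ u = 0 ∧ t = tv u φ := by
  set N := (t : V →ₗ[ZMod p] V) - LinearMap.id
  have hr := LinearMap.finrank_range_add_finrank_ker N
  obtain ⟨⟨u, huR⟩, hu0, hspan⟩ := finrank_eq_one_iff'.mp (show finrank (ZMod p) (LinearMap.range N) = 1 by omega)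
  have hu : u ≠ 0 := fun h => hu0 (Subtype.ext h)
  obtain ⟨g, -, hgu⟩ := exists_sep (⊥ : Submodule (ZMod p) V) (x := u) (by simpa using hu)
  set φ : Dual (ZMod p) V := (g u)⁻¹ • g.comp N
  have hN : ∀ x, N x = φ x • u := by
    intro x
    obtain ⟨c, hc⟩ := hspan ⟨N x, LinearMap.mem_range_self N x⟩
    have hc' : c • u = N x := congrArg Subtype.val hc
    rw [← hc']
    congr 1
    simp [φ, ← hc']
    field_simp
  have htx : ∀ x, t x = x + φ x • u := fun x => by
    rw [← hN]; simp [N]
  have hφu : φ u = 0 := by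
    have hpow : ∀ n : ℕ, (t ^ n) u = (1 + φ u) ^ n • u := by
      intro n
      induction n with
      | zero => simp
      | succ n ih =>
        rw [pow_succ', LinearEquiv.mul_apply, ih, map_smul, htx u, pow_succ, ← smul_smul, add_smul, one_smul]
    have h1 := hpow p
    have htp : t ^ p = 1 := orderOf_dvd_iff_pow_eq_one.mp ho.dvd
    rw [htp, ZMod.pow_card] at h1
    simp [add_smul, hu] at h1
    exact h1
  refine ⟨u, φ, hu, fun h => ?_, hφu, LinearEquiv.ext fun x => by rw [tv_apply hφu, htx]⟩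
  have : t = 1 := LinearEquiv.ext fun x => by simp [htx, h]
  rw [this, orderOf_one] at ho
  exact (Fact.out : p.Prime).one_lt.ne ho

end Cfsg.Agent.Lib.H66.Transvection
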